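import Cfsg.Agent.H69.OmegaTwelve.Tens.Rectangular

/-!
Without the Siegel group of a block, all elements are tensors.
-/

set_option autoImplicit false
set_option linter.style.haveILetI false

namespace Cfsg.Agent.H69.OmegaTwelve.Tens

open Module Matrix Cfsg.Agent.H24.Tensor Cfsg.Agent.H98.TensorGL

variable {F : Type*} [Field F] [Finite F] {S : Sys F 3 4} {X : Subgroup (Un F)} (hX : Amb S X)
  (hns : ¬ Single S X)
include hX hns

/-- Conjugates of half turns commuting with a half turn are half turns. -/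
theorem Amb.turn_of_conj {e e' : Fin 3 → F} (he : S.A.B e e ≠ 0) (he' : S.A.B e' e' ≠ 0) {g : Un F}
    (hg : g ∈ X) (hc : Commute (g * ltU (rotGL S.A he') * g⁻¹) (ltU (rotGL S.A he))) :
    ∃ (u : Fin 3 → F) (hu : S.A.B u u ≠ 0), g * ltU (rotGL S.A he') * g⁻¹ = ltU (rotGL S.A hu) := by
  have hs := hX.sA
  set y := g * ltU (rotGL S.A he') * g⁻¹ with hy
  have hyX : y ∈ X := X.mul_mem (X.mul_mem hg (hX.turn _ he')) (X.inv_mem hg)
  have hyy : y * y = 1 := by rw [hy, conj_mul, t_sq, mul_one, mul_inv_cancel]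
  obtain ⟨P, Q, hPQ⟩ := hX.tens_of_commute hns he hyX hc
  obtain ⟨f, k, fr⟩ := exists_frame S.A hs he
  set P₀ := (P : Matrix (Fin 3) (Fin 3) F)
  set Q₀ := (Q : Matrix (Fin 4) (Fin 4) F)
  -- the eigenvalue at `e`
  obtain ⟨p, hp⟩ : ∃ p : F, P₀ *ᵥ e = p • e := by
    obtain ⟨v₀, hv₀⟩ : ∃ v₀ : Fin 4 → F, v₀ ≠ 0 := ⟨Pi.single 0 1, by simp⟩
    have hQv : Q₀ *ᵥ v₀ ≠ 0 := fun h0 => hv₀ (by
      have := congrArg (((Q⁻¹ : GL (Fin 4) F) : Matrix (Fin 4) (Fin 4) F) *ᵥ ·) h0
      simpa [Q₀, Matrix.mulVec_mulVec] using this)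
    have h1 := fr.block_of_commute hs hc v₀
    nth_rewrite 1 [hPQ] at h1
    rw [lt_rt_pure] at h1
    obtain ⟨φ, hφ, -⟩ := Submodule.exists_le_ker_of_notMem (p := (⊥ : Submodule F (Fin 4 → F)))
      (v := Q₀ *ᵥ v₀) (by rwa [Submodule.mem_bot])
    have h2 := congrArg (ev φ) h1
    rw [ev_pure, ev_pure] at h2
    exact ⟨(φ (Q₀ *ᵥ v₀))⁻¹ * φ (comp S.A (y : En F) e e *ᵥ v₀), by rw [mul_smul, ← h2, inv_smul_smul₀ hφ]⟩
  have hp0 : p ≠ 0 := fun h0 => by
    rw [h0, zero_smul] at hp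
    have := congrArg (((P⁻¹ : GL (Fin 3) F) : Matrix (Fin 3) (Fin 3) F) *ᵥ ·) hp
    simp [P₀, Matrix.mulVec_mulVec] at this
    exact he (by rw [this]; simp)
  set P₁ := p⁻¹ • P₀ with hP₁
  set Q₁ := p • Q₀ with hQ₁
  have hyPQ : (y : En F) = lt P₁ * rt Q₁ := by
    rw [hPQ, hP₁, hQ₁, lt_smul, rt_smul, smul_mul_assoc, mul_smul_comm, smul_smul, inv_mul_cancel₀ hp0, one_smul]
  have hP₁e : P₁ *ᵥ e = e := by rw [hP₁, Matrix.smul_mulVec, hp, inv_smul_smul₀ hp0]
  have hye : ∀ v, (y : En F) (pure v e) = pure (Q₁ *ᵥ v) e := fun v => by rw [hyPQ, lt_rt_pure, hP₁e]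
  have hQ₁i : ∀ v w, S.D.B (Q₁ *ᵥ v) (Q₁ *ᵥ w) = S.D.B v w := fun v w => by
    have h1 := hX.iso y hyX (pure v e) (pure w e)
    rw [hye, hye, S.Bt_pure_pure, S.Bt_pure_pure] at h1
    exact mul_right_cancel₀ he h1
  have hyyv : ∀ m, (y : En F) ((y : En F) m) = m := fun m => by
    rw [← Module.End.mul_apply, ← Units.val_mul, hyy, Units.val_one, Module.End.one_apply]
  have hQ₁sq : ∀ v, Q₁ *ᵥ (Q₁ *ᵥ v) = v := fun v => pureL_inj he (by rw [← hye, ← hye, hyyv])
  obtain ⟨v₀, -, hv₀⟩ := S.D.ndOn_top.aniso S.D hX.sD (U := ⊤) (Bil.ne_bot_of_pos (by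
    rw [Bil.finrank_top_eq]; norm_num))
  have hv0 : v₀ ≠ 0 := fun h0 => hv₀ (by rw [h0]; simp)
  have hP₁i : ∀ x z, S.A.B (P₁ *ᵥ x) (P₁ *ᵥ z) = S.A.B x z := fun x z => by
    have h1 := hX.iso y hyX (pure v₀ x) (pure v₀ z)
    rw [hyPQ, lt_rt_pure, lt_rt_pure, S.Bt_pure_pure, S.Bt_pure_pure, hQ₁i] at h1
    exact mul_left_cancel₀ hv₀ h1
  have hP₁sq : ∀ x, P₁ *ᵥ (P₁ *ᵥ x) = x := fun x => pure_injective hv0 (by
    have h1 := hyyv (pure v₀ x)
    rw [hyPQ, lt_rt_pure, lt_rt_pure, hQ₁sq] at h1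
    exact h1)
  -- the fixed space and its complement
  set Bp := LinearMap.ker (Q₁ - 1).mulVecLin with hBp
  set Bm := LinearMap.ker (Q₁ + 1).mulVecLin with hBm
  have hmemp : ∀ v, v ∈ Bp ↔ Q₁ *ᵥ v = v := fun v => by
    rw [hBp, LinearMap.mem_ker, Matrix.mulVecLin_apply, Matrix.sub_mulVec, Matrix.one_mulVec, sub_eq_zero]
  have hmemm : ∀ v, v ∈ Bm ↔ Q₁ *ᵥ v = -v := fun v => by
    rw [hBm, LinearMap.mem_ker, Matrix.mulVecLin_apply, Matrix.add_mulVec, Matrix.one_mulVec, add_eq_zero_iff_eq_neg]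
  have hsum : 4 ≤ finrank F Bp + finrank F Bm := by
    have htop : (⊤ : Submodule F (Fin 4 → F)) ≤ Bp ⊔ Bm := fun v _ => by
      have := S.D.two
      rw [show v = (2 : F)⁻¹ • (v + Q₁ *ᵥ v) + (2 : F)⁻¹ • (v - Q₁ *ᵥ v) by match_scalars <;> field_simp <;> ring]
      refine Submodule.add_mem_sup (Submodule.smul_mem _ _ ((hmemp _).2 ?_)) (Submodule.smul_mem _ _ ((hmemm _).2 ?_))
      · rw [Matrix.mulVec_add, hQ₁sq, add_comm]
      · rw [Matrix.mulVec_sub, hQ₁sq, neg_sub]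
    have h1 := Submodule.finrank_mono htop
    rw [Bil.finrank_top_eq] at h1
    have h2 := Submodule.finrank_add_le_finrank_add_finrank Bp Bm
    omega
  have hdisj : ∀ v, v ∈ Bp → v ∈ Bm → v = 0 := fun v h1 h2 => by
    rw [hmemp] at h1; rw [hmemm, h1] at h2
    exact (smul_eq_zero.1 (show (2 : F) • v = 0 by rw [two_smul]; nth_rw 1 [h2]; rw [neg_add_cancel])).resolve_left
      S.D.two
  set K := LinearMap.ker ((y : En F) - 1) with hK
  have hKdim : finrank F K ≤ 4 := by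
    obtain ⟨f', k', fr'⟩ := exists_frame S.A hs he'
    let G : (Fin 4 → F) →ₗ[F] T F 3 4 := (g : En F) ∘ₗ pureL e'
    have hle : K ≤ LinearMap.range G := fun m hm => by
      rw [hK, LinearMap.mem_ker, LinearMap.sub_apply, Module.End.one_apply, sub_eq_zero, hy, Units.val_mul,
        Units.val_mul, Module.End.mul_apply, Module.End.mul_apply] at hm
      have h1 : lt (rot S.A e') (((g⁻¹ : Un F) : En F) m) = ((g⁻¹ : Un F) : En F) m := by
        refine units_injective g ?_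
        rw [← rotGL_val S.A he', ← ltU_val, hm, apply_inv_apply]
      refine ⟨(S.A.B e' e')⁻¹ • bl S.A e' (((g⁻¹ : Un F) : En F) m), ?_⟩
      show (g : En F) (pure _ e') = m
      rw [← fr'.fix_t hs h1, apply_inv_apply]
    exact (Submodule.finrank_mono hle).trans ((LinearMap.finrank_range_le G).trans (by rw [finrank_fin_fun]))
  have hyfix : ∀ v x, Q₁ *ᵥ v = v → P₁ *ᵥ x = x → pure v x ∈ K := fun v x h1 h2 => by
    rw [hK, LinearMap.mem_ker, LinearMap.sub_apply, Module.End.one_apply, hyPQ, lt_rt_pure, h1, h2, sub_self]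
  have hyneg : ∀ v x, Q₁ *ᵥ v = -v → P₁ *ᵥ x = -x → pure v x ∈ K := fun v x h1 h2 => by
    rw [hK, LinearMap.mem_ker, LinearMap.sub_apply, Module.End.one_apply, hyPQ, lt_rt_pure, h1, h2, map_neg,
      pure_neg_left, neg_neg, sub_self]
  obtain ⟨u, hu, hPu⟩ : ∃ u, S.A.B u u ≠ 0 ∧ (P₁ = 1 ∨ P₁ = rot S.A u ∨ P₁ = -rot S.A u) := by
    by_cases hfe : P₁ *ᵥ f = f ∨ P₁ *ᵥ f = -f
    · have hk : P₁ *ᵥ k = k ∨ P₁ *ᵥ k = -k := by
        have h1 : S.A.B e (P₁ *ᵥ k) = 0 := by rw [← hP₁e, hP₁i, fr.eg]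
        have h2 : S.A.B f (P₁ *ᵥ k) = 0 := by
          rcases hfe with h | h
          · rw [← h, hP₁i, fr.fg]
          · rw [show f = -(P₁ *ᵥ f) by rw [h, neg_neg], map_neg, LinearMap.neg_apply, hP₁i, fr.fg, neg_zero]
        have h3 := fr.coord hs h1
        rw [h2, zero_div, zero_smul, zero_add] at h3
        set c := S.A.B k (P₁ *ᵥ k) / S.A.B k k
        have h4 : c * c = 1 := mul_right_cancel₀ fr.g0 (by
          have h5 := hP₁i k k
          rw [h3] at h5
          simp at h5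
          linear_combination h5)
        rcases mul_self_eq_one_iff.1 h4 with h5 | h5 <;> rw [h5] at h3
        · exact Or.inl (by rw [h3, one_smul])
        · exact Or.inr (by rw [h3, neg_one_smul])
      rcases hfe with h | h <;> rcases hk with h' | h'
      · exact ⟨e, he, Or.inl (fr.ext_vec hs (by rw [hP₁e, Matrix.one_mulVec]) (by rw [h, Matrix.one_mulVec])
          (by rw [h', Matrix.one_mulVec]))⟩
      · exact ⟨k, fr.g0, Or.inr (Or.inr (fr.ext_vec hs (by rw [Matrix.neg_mulVec, hP₁e, rot_perp S.A (fr.ge hs), neg_neg])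
          (by rw [Matrix.neg_mulVec, h, rot_perp S.A (fr.gf hs), neg_neg])
          (by rw [Matrix.neg_mulVec, h', rot_self S.A fr.g0])))⟩
      · exact ⟨f, fr.f0, Or.inr (Or.inr (fr.ext_vec hs (by rw [Matrix.neg_mulVec, hP₁e, rot_perp S.A (fr.fe hs), neg_neg])
          (by rw [Matrix.neg_mulVec, h, rot_self S.A fr.f0])
          (by rw [Matrix.neg_mulVec, h', rot_perp S.A fr.fg, neg_neg])))⟩
      · exact ⟨e, he, Or.inr (Or.inl (fr.ext_vec hs (by rw [hP₁e, rot_self S.A he])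
          (by rw [h, rot_perp S.A fr.ef]) (by rw [h', rot_perp S.A fr.eg])))⟩
    push Not at hfe
    -- an involution moving `f` is minus a half turn
    set d := f - P₁ *ᵥ f with hd
    have hdd : P₁ *ᵥ d = -d := by rw [hd, Matrix.mulVec_sub, hP₁sq, neg_sub]
    have hed : S.A.B e d = 0 := by
      rw [hd, map_sub, fr.ef, show S.A.B e (P₁ *ᵥ f) = 0 by rw [← hP₁e, hP₁i, fr.ef], sub_self]
    set s := f + P₁ *ᵥ f with hsdef
    have hss : P₁ *ᵥ s = s := by rw [hsdef, Matrix.mulVec_add, hP₁sq, add_comm]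
    have hes : S.A.B e s = 0 := by
      rw [hsdef, map_add, fr.ef, show S.A.B e (P₁ *ᵥ f) = 0 by rw [← hP₁e, hP₁i, fr.ef], add_zero]
    have hsd : S.A.B s d = 0 := by
      have h1 := hP₁i s d
      rw [hss, hdd, map_neg] at h1
      exact (mul_eq_zero.1 (show (2 : F) * S.A.B s d = 0 by linear_combination -h1)).resolve_left S.A.two
    have hd0 : d ≠ 0 := fun h0 => hfe.1 (sub_eq_zero.1 h0).symm
    have hs0 : s ≠ 0 := fun h0 => hfe.2 (eq_neg_of_add_eq_zero_right h0)
    have hdne : S.A.B d d ≠ 0 := fun h0 => by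
      have hx : ∀ z, S.A.B d z = 0 := by
        intro z
        have hspan : S.A.B d s = 0 := S.A.comm hsd
        rw [fr.coord hs hed] at h0 hspan
        rw [fr.coord hs hes] at hspan
        have hz : S.A.B d z = S.A.B d f * (S.A.B f z / S.A.B f f) + S.A.B d k * (S.A.B k z / S.A.B k k) := by
          conv_lhs => rw [fr.expand hs z]
          simp [S.A.comm hed]
          ring
        have hdf : S.A.B d f = 0 := by
          have h2 : S.A.B s d = 0 := hsd
          have h3 : S.A.B d d = 0 := by rw [fr.coord hs hed]; exact h0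
          rw [hd, hsdef] at h2
          rw [hd] at h3 ⊢
          simp [hP₁i, S.A.symm' hs f (P₁ *ᵥ f)] at h2 h3 ⊢
          exact (mul_eq_zero.1 (show (2 : F) * (S.A.B f f - S.A.B f (P₁ *ᵥ f)) = 0 by
            linear_combination h3)).resolve_left S.A.two
        have hdk : S.A.B d k = 0 := by
          rw [fr.coord hs hed, show S.A.B f d = 0 from S.A.comm hdf, zero_div, zero_smul, zero_add, map_smul,
            LinearMap.smul_apply, smul_eq_mul, div_mul_cancel₀ _ fr.g0]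
          have h3 : S.A.B d d = 0 := by rw [fr.coord hs hed]; exact h0
          rw [fr.coord hs hed, show S.A.B f d = 0 from S.A.comm hdf, zero_div, zero_smul, zero_add] at h3
          simp at h3
          rcases h3 with h3 | h3
          · exact h3
          · exact absurd h3 fr.g0
        rw [hz, hdf, hdk, zero_mul, zero_mul, add_zero]
      exact hd0 (S.A.nd d hx)
    have hsne : S.A.B s s ≠ 0 := fun h0 => by
      refine hs0 (S.A.nd s fun z => ?_)
      have hz := fr.expand hs z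
      have hsf : S.A.B s f = 0 := by
        rw [hsdef] at h0 ⊢
        simp [hP₁i, S.A.symm' hs f (P₁ *ᵥ f)] at h0 ⊢
        exact (mul_eq_zero.1 (show (2 : F) * (S.A.B f f + S.A.B f (P₁ *ᵥ f)) = 0 by
          linear_combination h0)).resolve_left S.A.two
      have h4 := fr.coord hs hes
      rw [show S.A.B f s = 0 from S.A.comm hsf, zero_div, zero_smul, zero_add] at h4
      have hsk : S.A.B k s = 0 := by
        rw [h4] at h0
        simp at h0
        rcases h0 with h0 | h0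
        · exact h0
        · exact absurd h0 fr.g0
      rw [h4, hsk, zero_div, zero_smul]; simp
    have fr' : Frame S.A e s d := ⟨he, hsne, hdne, hes, hed, hsd⟩
    refine ⟨d, hdne, Or.inr (Or.inr (fr'.ext_vec hs ?_ ?_ ?_))⟩
    · rw [Matrix.neg_mulVec, hP₁e, rot_perp S.A (fr'.ge hs), neg_neg]
    · rw [Matrix.neg_mulVec, hss, rot_perp S.A (fr'.gf hs), neg_neg]
    · rw [Matrix.neg_mulVec, hdd, rot_self S.A hdne]
  have hQone : Bm = ⊥ → Q₁ = 1 := fun hb => Matrix.ext_iff_mulVec.2 fun v => by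
    have h1 : v - Q₁ *ᵥ v ∈ Bm := (hmemm _).2 (by rw [Matrix.mulVec_sub, hQ₁sq, neg_sub])
    rw [hb, Submodule.mem_bot, sub_eq_zero] at h1
    rw [← h1, Matrix.one_mulVec]
  rcases hPu with h1 | h1 | h1
  · exfalso
    -- both eigenspaces get tripled
    let L : (Fin 3 → Bp) →ₗ[F] T F 3 4 :=
      { toFun := fun p i => (p i : Fin 4 → F)
        map_add' := fun p p' => rfl
        map_smul' := fun r p => rfl }
    have hL : Function.Injective L := fun p p' h => funext fun i => Subtype.ext (congrFun h i)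
    have hy1 : ∀ m i, (y : En F) m i = Q₁ *ᵥ m i := fun m i => by
      rw [hyPQ, h1, lt_one, one_mul, rt_apply]
    have hrange : LinearMap.range L = K := by
      refine le_antisymm ?_ ?_
      · rintro _ ⟨p, rfl⟩
        rw [hK, LinearMap.mem_ker, LinearMap.sub_apply, Module.End.one_apply, sub_eq_zero]
        exact funext fun i => (hy1 _ i).trans ((hmemp _).1 (p i).2)
      · intro m hm
        rw [hK, LinearMap.mem_ker, LinearMap.sub_apply, Module.End.one_apply, sub_eq_zero] at hm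
        exact ⟨fun i => ⟨m i, (hmemp _).2 (by rw [← hy1, hm])⟩, rfl⟩
    have h2 := LinearMap.finrank_range_of_inj hL
    rw [hrange, Module.finrank_pi_fintype, Finset.sum_const, Finset.card_univ, Fintype.card_fin, smul_eq_mul] at h2
    obtain ⟨f', k', fr'⟩ := exists_frame S.A hs he'
    let G : (Fin 4 → F) →ₗ[F] T F 3 4 := (g : En F) ∘ₗ pureL e'
    have hle : LinearMap.range G ≤ K := by
      rintro _ ⟨v, rfl⟩
      rw [hK, LinearMap.mem_ker, LinearMap.sub_apply, Module.End.one_apply, sub_eq_zero, hy]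
      show ((g * ltU (rotGL S.A he') * g⁻¹ : Un F) : En F) ((g : En F) (pure v e')) = (g : En F) (pure v e')
      rw [Units.val_mul, Units.val_mul, Module.End.mul_apply, Module.End.mul_apply, inv_apply_apply, t_apply,
        rot_self S.A he']
    have h3 := Submodule.finrank_mono hle
    rw [LinearMap.finrank_range_of_inj (f := G) (fun a b h => pureL_inj he' (units_injective g h)),
      finrank_fin_fun] at h3
    omega
  all_goals
    obtain ⟨a, b, fr₂⟩ := exists_frame S.A hs hu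
  · refine ⟨u, hu, Units.ext ?_⟩
    suffices hb : Bm = ⊥ by rw [hyPQ, h1, hQone hb, rt_one, mul_one, ltU_val, rotGL_val]
    let L : Bp × (Bm × Bm) →ₗ[F] T F 3 4 :=
      (pureL u ∘ₗ Bp.subtype).coprod ((pureL a ∘ₗ Bm.subtype).coprod (pureL b ∘ₗ Bm.subtype))
    have hL : Function.Injective L := (injective_iff_map_eq_zero L).2 fun p hp => by
      simp only [L, LinearMap.coprod_apply, LinearMap.comp_apply, Submodule.coe_subtype, pureL_apply] at hp
      have e1 := congrArg (bl S.A u) hp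
      have e2 := congrArg (bl S.A a) hp
      have e3 := congrArg (bl S.A b) hp
      simp [bl_pure, fr₂.ef, fr₂.eg, fr₂.fe hs, fr₂.fg, fr₂.ge hs, fr₂.gf hs, hu, fr₂.f0, fr₂.g0] at e1 e2 e3
      exact Prod.ext (by ext1; simp [e1]) (Prod.ext (by ext1; simp [e2]) (by ext1; simp [e3]))
    have hle : LinearMap.range L ≤ K := by
      rintro _ ⟨p, rfl⟩
      simp only [L, LinearMap.coprod_apply, LinearMap.comp_apply, Submodule.coe_subtype, pureL_apply]
      refine K.add_mem (hyfix _ _ ((hmemp _).1 p.1.2) (by rw [h1, rot_self S.A hu])) (K.add_mem ?_ ?_)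
      · exact hyneg _ _ ((hmemm _).1 p.2.1.2) (by rw [h1, rot_perp S.A fr₂.ef])
      · exact hyneg _ _ ((hmemm _).1 p.2.2.2) (by rw [h1, rot_perp S.A fr₂.eg])
    have h3 := Submodule.finrank_mono hle
    rw [LinearMap.finrank_range_of_inj hL, finrank_prod, finrank_prod] at h3
    exact Submodule.finrank_eq_zero.1 (by omega)
  · refine ⟨u, hu, Units.ext ?_⟩
    suffices hb : Bp = ⊥ by
      have hQ : Q₁ = -1 := Matrix.ext_iff_mulVec.2 fun v => by
        have h4 : v + Q₁ *ᵥ v ∈ Bp := (hmemp _).2 (by rw [Matrix.mulVec_add, hQ₁sq, add_comm])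
        rw [hb, Submodule.mem_bot] at h4
        rw [Matrix.neg_mulVec, Matrix.one_mulVec]
        exact eq_neg_of_add_eq_zero_right h4
      rw [hyPQ, h1, hQ, show (-1 : Matrix (Fin 4) (Fin 4) F) = (-1 : F) • 1 by simp, rt_smul, rt_one,
        show -rot S.A u = (-1 : F) • rot S.A u by simp, lt_smul, mul_smul_comm, mul_one, smul_smul, neg_mul_neg,
        one_mul, one_smul, ltU_val, rotGL_val]
    let L : Bm × (Bp × Bp) →ₗ[F] T F 3 4 :=
      (pureL u ∘ₗ Bm.subtype).coprod ((pureL a ∘ₗ Bp.subtype).coprod (pureL b ∘ₗ Bp.subtype))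
    have hL : Function.Injective L := (injective_iff_map_eq_zero L).2 fun p hp => by
      simp only [L, LinearMap.coprod_apply, LinearMap.comp_apply, Submodule.coe_subtype, pureL_apply] at hp
      have e1 := congrArg (bl S.A u) hp
      have e2 := congrArg (bl S.A a) hp
      have e3 := congrArg (bl S.A b) hp
      simp [bl_pure, fr₂.ef, fr₂.eg, fr₂.fe hs, fr₂.fg, fr₂.ge hs, fr₂.gf hs, hu, fr₂.f0, fr₂.g0] at e1 e2 e3
      exact Prod.ext (by ext1; simp [e1]) (Prod.ext (by ext1; simp [e2]) (by ext1; simp [e3]))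
    have hle : LinearMap.range L ≤ K := by
      rintro _ ⟨p, rfl⟩
      simp only [L, LinearMap.coprod_apply, LinearMap.comp_apply, Submodule.coe_subtype, pureL_apply]
      refine K.add_mem (hyneg _ _ ((hmemm _).1 p.1.2) (by rw [h1, Matrix.neg_mulVec, rot_self S.A hu]))
        (K.add_mem ?_ ?_)
      · exact hyfix _ _ ((hmemp _).1 p.2.1.2) (by rw [h1, Matrix.neg_mulVec, rot_perp S.A fr₂.ef, neg_neg])
      · exact hyfix _ _ ((hmemp _).1 p.2.2.2) (by rw [h1, Matrix.neg_mulVec, rot_perp S.A fr₂.eg, neg_neg])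
    have h3 := Submodule.finrank_mono hle
    rw [LinearMap.finrank_range_of_inj hL, finrank_prod, finrank_prod] at h3
    exact Submodule.finrank_eq_zero.1 (by omega)

/-- Conjugates of half turns are half turns. -/
theorem Amb.conj_turn {g : Un F} (hg : g ∈ X) {e' : Fin 3 → F} (he' : S.A.B e' e' ≠ 0) :
    ∃ (u : Fin 3 → F) (hu : S.A.B u u ≠ 0), g * ltU (rotGL S.A he') * g⁻¹ = ltU (rotGL S.A hu) := by
  have hs := hX.sA
  obtain ⟨e, he, hne⟩ := exists_other hs he'
  set s : Un F := ltU (rotGL S.A he) with hsdef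
  set r := g * ltU (rotGL S.A he') * g⁻¹ with hr
  have hss : s * s = 1 := t_sq he
  have hsi : s⁻¹ = s := t_inv he
  have hrr : r * r = 1 := by rw [hr, conj_mul, t_sq, mul_one, mul_inv_cancel]
  have hmem : ∀ c ∈ Subgroup.zpowers (r * s), c ∈ X := fun c hc =>
    (Subgroup.zpowers_le.2 (X.mul_mem (X.mul_mem (X.mul_mem hg (hX.turn _ he')) (X.inv_mem hg)) (hX.turn _ he))) hc
  rcases invol_cases hss hrr with ⟨c, hc, hcr⟩ | ⟨z, hz, hz1, hzz, hzs, hzr, hcase⟩
  · exfalso
    by_cases hR : Rect S.A e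
    · refine hX.not_conj hns he' he (fun h => hne ⟨fun _ => hR, fun _ => h⟩) hR
        (g := g⁻¹ * c) (X.mul_mem (X.inv_mem hg) (hmem c hc)) ?_
      rw [show (g⁻¹ * c) * ltU (rotGL S.A he) * (g⁻¹ * c)⁻¹ = g⁻¹ * (c * s * c⁻¹) * g by rw [hsdef]; group, hcr, hr]
      group
    · refine hX.not_conj hns he he' hR (by_contra fun h => hne ⟨fun h' => absurd h' h, fun h' => absurd h' hR⟩)
        (g := c⁻¹ * g) (X.mul_mem (X.inv_mem (hmem c hc)) hg) ?_
      rw [show (c⁻¹ * g) * ltU (rotGL S.A he') * (c⁻¹ * g)⁻¹ = c⁻¹ * r * c by rw [hr]; group, ← hcr, hsdef]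
      group
  -- the involution times the half turn is a half turn
  obtain ⟨g₁, e₁, he₁, hg₁, hzs1⟩ : ∃ (g₁ : Un F) (e₁ : Fin 3 → F) (he₁ : S.A.B e₁ e₁ ≠ 0),
      g₁ ∈ X ∧ g₁ * ltU (rotGL S.A he₁) * g₁⁻¹ = z * s := by
    rcases hcase with ⟨c, hc, hcr⟩ | ⟨j, hj, hjj⟩
    · refine ⟨c⁻¹ * g, e', he', X.mul_mem (X.inv_mem (hmem c hc)) hg, ?_⟩
      rw [show (c⁻¹ * g) * ltU (rotGL S.A he') * (c⁻¹ * g)⁻¹ = c⁻¹ * r * c by rw [hr]; group, ← hcr]
      group
    · refine ⟨j, e, he, hmem j hj, ?_⟩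
      have h1 : s * j * s = j⁻¹ := invol_conj_zpowers hss hrr hj
      calc j * s * j⁻¹ = j * s * (s * j * s) := by rw [h1]
        _ = j * (s * s) * j * s := by simp only [mul_assoc]
        _ = z * s := by rw [hss, mul_one, hjj]
  have hzsc : Commute (z * s) s := hzs.mul_left (Commute.refl s)
  obtain ⟨u, hu, hzu⟩ := hX.turn_of_conj hns he he₁ hg₁ (by rw [hzs1]; exact hzsc)
  rw [hzs1] at hzu
  -- so the involution is itself a half turn
  have hue : S.A.B u e = 0 := by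
    have h0' := hzsc.eq
    rw [hzu] at h0'
    have h1 := congrArg (fun w : Un F => (w : En F) (pure (Pi.single 0 1) e)) h0'
    simp only [hsdef, Units.val_mul, Module.End.mul_apply, t_apply, rot_self S.A he] at h1
    have h2 := pure_injective (show (Pi.single 0 1 : Fin 4 → F) ≠ 0 by simp) h1
    by_contra h0
    apply hz1
    have h5 : z = ltU (rotGL S.A hu) * s := by rw [← hzu, mul_assoc, hss, mul_one]
    rw [h5, hsdef, ← map_mul, ← map_one (ltU (F := F) (a := 3) (b := 4))]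
    refine congrArg ltU (Units.ext ?_)
    -- the axis is proportional
    set k := 2 * S.A.B u e / S.A.B u u with hk
    rw [rot_mulVec S.A e (rot S.A u *ᵥ e), rot_mulVec S.A u e, ← hk] at h2
    have hk0 : k ≠ 0 := div_ne_zero (mul_ne_zero S.A.two h0) hu
    set l := 2 * S.A.B e (k • u - e) / S.A.B e e with hl
    have h6 : (2 * k) • u = (l + 2) • e := by linear_combination (norm := module) h2
    have hu' : u = ((2 * k)⁻¹ * (l + 2)) • e := by
      rw [mul_smul, ← h6, inv_smul_smul₀ (mul_ne_zero S.A.two hk0)]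
    rw [Units.val_mul, rotGL_val, rotGL_val, hu',
      rot_mulVec_scale hs _ (fun hc => hu (by rw [hu', hc, zero_smul]; simp)), rot_sq S.A he, Units.val_one]
  obtain ⟨f, k, fr⟩ := exists_frame S.A hs he
  have hz_eq : ∃ (w : Fin 3 → F) (hw : S.A.B w w ≠ 0), z = ltU (rotGL S.A hw) := by
    have hU := (S.A.ndOn_top).cut_aniso S.A hs (z := e) trivial he
    have heu : S.A.B e u = 0 := S.A.comm hue
    have hU2 := hU.cut_aniso S.A hs (z := u) ⟨trivial, LinearMap.mem_ker.2 heu⟩ hu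
    have h1 := Bil.finrank_inf_ker_add_one (⊤ : Submodule F (Fin 3 → F)) (S.A.B e)
    rw [Bil.finrank_top_eq] at h1
    have h2 := Bil.finrank_inf_ker_add_one (⊤ ⊓ LinearMap.ker (S.A.B e)) (S.A.B u)
    obtain ⟨w, hw, hww⟩ := hU2.aniso S.A hs (Bil.ne_bot_of_pos (by omega))
    have fr₃ : Frame S.A e u w := ⟨he, hu, hww, heu, LinearMap.mem_ker.1 hw.1.2, LinearMap.mem_ker.1 hw.2⟩
    refine ⟨w, hww, ?_⟩
    have h5 : z = ltU (rotGL S.A hu) * s := by rw [← hzu, mul_assoc, hss, mul_one]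
    rw [h5, hsdef, ← map_mul]
    refine congrArg ltU (Units.ext (fr₃.ext_vec hs ?_ ?_ ?_)) <;>
      simp only [Units.val_mul, rotGL_val, ← Matrix.mulVec_mulVec, rot_self S.A he, rot_self S.A hu,
        rot_self S.A hww, rot_perp S.A fr₃.ef, rot_perp S.A fr₃.eg, rot_perp S.A (fr₃.fe hs),
        rot_perp S.A fr₃.fg, rot_perp S.A (fr₃.ge hs), rot_perp S.A (fr₃.gf hs), Matrix.mulVec_neg, neg_neg]
  obtain ⟨w, hw, rfl⟩ := hz_eq
  exact hX.turn_of_conj hns hw he' hg hzr.symm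

/-- All elements are tensors. -/
theorem Amb.all_tens {g : Un F} (hg : g ∈ X) : IsTens g := by
  have hs := hX.sA
  obtain ⟨v₀, -, hv₀⟩ := S.D.ndOn_top.aniso S.D hX.sD (U := ⊤) (Bil.ne_bot_of_pos (by
    rw [Bil.finrank_top_eq]; norm_num))
  have hv0 : v₀ ≠ 0 := fun h0 => hv₀ (by rw [h0]; simp)
  obtain ⟨e, -, he⟩ := S.A.ndOn_top.aniso S.A hs (U := ⊤) (Bil.ne_bot_of_pos (by
    rw [Bil.finrank_top_eq]; norm_num))
  obtain ⟨f, k, fr⟩ := exists_frame S.A hs he
  obtain ⟨u, hu, hgu⟩ := hX.conj_turn hns hg he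
  obtain ⟨a, b, fru⟩ := exists_frame S.A hs hu
  set Qm := (S.A.B u u)⁻¹ • (bl S.A u ∘ₗ (g : En F) ∘ₗ pureL e) with hQm
  have hge : ∀ v, (g : En F) (pure v e) = pure (Qm v) u := fun v => by
    refine fru.fix_t hs ?_
    have h1 : lt (rot S.A u) = ((g * ltU (rotGL S.A he) * g⁻¹ : Un F) : En F) := by
      rw [hgu, ltU_val, rotGL_val]
    rw [h1, Units.val_mul, Units.val_mul, Module.End.mul_apply, Module.End.mul_apply, inv_apply_apply, t_apply,
      rot_self S.A he]
  -- on every half turn image of `e`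
  have hrot : ∀ (w : Fin 3 → F), S.A.B w w ≠ 0 → ∃ x, ∀ v, (g : En F) (pure v (rot S.A w *ᵥ e)) = pure (Qm v) x := by
    intro w hw
    obtain ⟨w', hw', hgw⟩ := hX.conj_turn hns hg hw
    refine ⟨rot S.A w' *ᵥ u, fun v => ?_⟩
    rw [← t_apply hw v e, ← t_apply hw' (Qm v) u, ← hgw, ← hge, Units.val_mul, Units.val_mul,
      Module.End.mul_apply, Module.End.mul_apply, inv_apply_apply]
  have hdir : ∀ h, S.A.B e h = 0 → S.A.B h h ≠ 0 →
      ∃ x, ∀ v, (g : En F) (pure v h) = pure (Qm v) x := by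
    intro h heh hh
    obtain ⟨t, ht, htc⟩ := exists_param hX.five (div_ne_zero hh he) (-1)
    have hhe : S.A.B h e = 0 := S.A.comm heh
    have hw : S.A.B (e + t • h) (e + t • h) ≠ 0 := fun h0 => htc (by
      simp [heh, hhe] at h0
      field_simp
      linear_combination h0)
    obtain ⟨x, hx⟩ := hrot _ hw
    set l := 2 * S.A.B (e + t • h) e / S.A.B (e + t • h) (e + t • h) with hl
    have hl0 : l ≠ 0 := div_ne_zero (mul_ne_zero S.A.two (by simp [hhe]; exact he)) hw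
    refine ⟨(l * t)⁻¹ • (x - (l - 1) • u), fun v => ?_⟩
    have h1 : rot S.A (e + t • h) *ᵥ e = (l - 1) • e + (l * t) • h := by
      rw [rot_mulVec, ← hl]; module
    have h2 := hx v
    rw [h1, map_add, map_add, map_smul, map_smul, map_smul, map_smul, hge] at h2
    rw [map_smul, map_sub, map_smul, ← h2, add_sub_cancel_left, inv_smul_smul₀ (mul_ne_zero hl0 ht)]
  obtain ⟨xf, hxf⟩ := hdir f fr.ef fr.f0
  obtain ⟨xk, hxk⟩ := hdir k fr.eg fr.g0
  refine isTens_of (by norm_num) (by norm_num)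
    (P := (S.A.B e e)⁻¹ • S.A.tau u e + (S.A.B f f)⁻¹ • S.A.tau xf f + (S.A.B k k)⁻¹ • S.A.tau xk k)
    (Q := LinearMap.toMatrix' Qm) ?_
  refine fr.ext_op hs (fun v => ?_) (fun v => ?_) fun v => ?_
  all_goals
    rw [lt_rt_pure, LinearMap.toMatrix'_mulVec]
    simp [Matrix.add_mulVec, Matrix.smul_mulVec, Bil.tau_mulVec, fr.ef, fr.eg, fr.fg, fr.fe hs, fr.ge hs,
      fr.gf hs, fr.e0, fr.f0, fr.g0, hge, hxf, hxk]

end Cfsg.Agent.H69.OmegaTwelve.Tens
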