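import Cfsg.Agent.H69.OmegaTwelve.Tens.Plane

/-!
The group of Siegel transformations of a quaternary form of minus type: commutators and normalised subgroups.
-/

set_option autoImplicit false

namespace Cfsg.Agent.H69.OmegaTwelve.Tens

open Module Matrix Cfsg.Agent.H24.Tensor

variable {F : Type*} [Field F] {D : Bil F 4}

/-- No totally isotropic plane. -/
def NoPlane (D : Bil F 4) : Prop :=
  ∀ x y : Fin 4 → F, x ≠ 0 → D.B x x = 0 → D.B y y = 0 → D.B x y = 0 → y ∈ Submodule.span F {x}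

variable (hs : D.s = 1) (np : NoPlane D)

include hs in
theorem exists_pair [Finite F] : ∃ x y z : Fin 4 → F, x ≠ 0 ∧ D.B x x = 0 ∧ D.B y y = 0 ∧ D.B x y = 1 ∧
    D.B x z = 0 ∧ D.B y z = 0 ∧ D.B z z ≠ 0 := by
  obtain ⟨x, -, hx0, hxx⟩ := D.ndOn_top.isotropic D hs (U := ⊤) (by rw [Bil.finrank_top_eq]; norm_num)
  obtain ⟨y, -, hyy, hxy⟩ := D.ndOn_top.partner D (x := x) trivial hx0 hxx
  have hU := D.ndOn_top.cut_pair D (x := x) (y := y) trivial trivial hxx hyy hxy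
  have hd := D.finrank_cut ⊤ x y
  rw [Bil.finrank_top_eq] at hd
  obtain ⟨z, hz, hzz⟩ := hU.aniso D hs (Bil.ne_bot_of_pos (by omega))
  obtain ⟨-, hxz, hyz⟩ := D.mem_cut.1 hz
  exact ⟨x, y, z, hx0, hxx, hyy, hxy, hxz, hyz, hzz⟩

include hs np in
/-- A matrix with every isotropic vector an eigenvector is scalar. -/
theorem scalar_of_isotropic_eigen [Finite F] {M : Matrix (Fin 4) (Fin 4) F}
    (h : ∀ x, D.B x x = 0 → M *ᵥ x ∈ Submodule.span F {x}) : ∃ t : F, M = t • 1 := by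
  obtain ⟨x, y, -, hx0, hxx, hyy, hxy, -⟩ := exists_pair hs
  obtain ⟨α, hα⟩ := Submodule.mem_span_singleton.1 (h x hxx)
  obtain ⟨β, hβ⟩ := Submodule.mem_span_singleton.1 (h y hyy)
  have hyx : D.B y x = 1 := by rw [D.symm' hs x y, hxy]
  have key : ∀ z, D.B x z = 0 → D.B y z = 0 → D.B z z ≠ 0 → M *ᵥ z = α • z ∧ β = α := by
    intro z hxz hyz hzz
    set k := D.B z z / 2 with hk
    have hk0 : k ≠ 0 := div_ne_zero hzz D.two
    have hzx : D.B z x = 0 := D.comm hxz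
    have hzy : D.B z y = 0 := D.comm hyz
    have htwo := D.two
    obtain ⟨γ, hγ⟩ := Submodule.mem_span_singleton.1 (h (x - k • y + z) (by
      simp [hxx, hyy, hxy, hyx, hxz, hyz, hzx, hzy, hk]; field_simp; ring))
    obtain ⟨γ', hγ'⟩ := Submodule.mem_span_singleton.1 (h (x - k • y - z) (by
      simp [hxx, hyy, hxy, hyx, hxz, hyz, hzx, hzy, hk]; field_simp; ring))
    rw [Matrix.mulVec_add, Matrix.mulVec_sub, Matrix.mulVec_smul, ← hα, ← hβ] at hγ
    rw [Matrix.mulVec_sub, Matrix.mulVec_sub, Matrix.mulVec_smul, ← hα, ← hβ] at hγ'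
    have hsum : γ • (x - k • y + z) + γ' • (x - k • y - z) = (2 * α) • x - (2 * k * β) • y := by
      rw [hγ, hγ']; module
    have e1 := congrArg (D.B z) hsum
    have e2 := congrArg (D.B y) hsum
    have e3 := congrArg (D.B x) hsum
    simp [hxx, hyy, hxy, hyx, hxz, hyz, hzx, hzy] at e1 e2 e3
    have hγγ : γ = γ' := sub_eq_zero.1
      ((mul_eq_zero.1 (show (γ - γ') * D.B z z = 0 by linear_combination e1)).resolve_right hzz)
    have hγα : γ = α := mul_left_cancel₀ htwo (by linear_combination e2 + hγγ)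
    have hγβ : γ = β := mul_left_cancel₀ (mul_ne_zero htwo hk0) (by linear_combination -e3 + k * hγγ)
    refine ⟨?_, hγβ.symm.trans hγα⟩
    subst hγα hγβ
    linear_combination (norm := module) -hγ
  have key' : ∀ z, D.B x z = 0 → D.B y z = 0 → M *ᵥ z = α • z := by
    intro z hxz hyz
    rcases eq_or_ne z 0 with rfl | hz0
    · simp
    refine (key z hxz hyz fun hzz => ?_).1
    obtain ⟨c, rfl⟩ := Submodule.mem_span_singleton.1 (np x z hx0 hxx hzz hxz)
    rw [map_smul, hyx, smul_eq_mul, mul_one] at hyz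
    exact hz0 (by rw [hyz, zero_smul])
  have hβα : β = α := by
    have hU := D.ndOn_top.cut_pair D (x := x) (y := y) trivial trivial hxx hyy hxy
    have hd := D.finrank_cut ⊤ x y
    rw [Bil.finrank_top_eq] at hd
    obtain ⟨z, hz, hzz⟩ := hU.aniso D hs (Bil.ne_bot_of_pos (by omega))
    exact (key z (D.mem_cut.1 hz).2.1 (D.mem_cut.1 hz).2.2 hzz).2
  refine ⟨α, Matrix.ext_iff_mulVec.2 fun u => ?_⟩
  obtain ⟨-, h1, h2⟩ := D.mem_cut.1 (D.proj_mem (z := u) (U := ⊤) trivial trivial trivial hxx hyy hxy)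
  have e := key' _ h1 h2
  rw [Matrix.mulVec_sub, Matrix.mulVec_sub, Matrix.mulVec_smul, Matrix.mulVec_smul, ← hα, ← hβ, hβα] at e
  rw [Matrix.smul_mulVec, Matrix.one_mulVec]
  linear_combination (norm := module) e

include hs in
theorem sieM_add {x z z' : Fin 4 → F} (hx : D.B x x = 0) (hz : D.B x z = 0) (hz' : D.B x z' = 0) :
    D.sieM x z * D.sieM x z' = D.sieM x (z + z') := by
  have hzz' : D.B x (z + z') = 0 := by rw [map_add, hz, hz', add_zero]
  refine Matrix.ext_iff_mulVec.2 fun v => ?_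
  rw [← Matrix.mulVec_mulVec, D.sieM_mulVec hx hz', D.sieM_mulVec hx hz, D.sieM_mulVec hx hzz', hs]
  simp only [map_add, map_sub, map_smul, LinearMap.add_apply, smul_eq_mul, hx, hz', D.comm hz,
    D.symm' hs z z']
  have := D.two
  match_scalars <;> field_simp <;> ring

include hs in
theorem sieM_conj {M M' : Matrix (Fin 4) (Fin 4) F} (hM : ∀ u v, D.B (M *ᵥ u) (M *ᵥ v) = D.B u v)
    (hMM : M * M' = 1) {x z : Fin 4 → F} (hx : D.B x x = 0) (hz : D.B x z = 0) :
    M * D.sieM x z * M' = D.sieM (M *ᵥ x) (M *ᵥ z) := by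
  refine Matrix.ext_iff_mulVec.2 fun v => ?_
  have hv : M *ᵥ (M' *ᵥ v) = v := by rw [Matrix.mulVec_mulVec, hMM, Matrix.one_mulVec]
  rw [← Matrix.mulVec_mulVec, ← Matrix.mulVec_mulVec, D.sieM_mulVec hx hz,
    D.sieM_mulVec ((hM x x).trans hx) ((hM x z).trans hz), Matrix.mulVec_sub, Matrix.mulVec_sub, Matrix.mulVec_add,
    Matrix.mulVec_smul, Matrix.mulVec_smul, Matrix.mulVec_smul, hv, hM, hs, ← hM z (M' *ᵥ v), ← hM x (M' *ᵥ v), hv]

theorem sieM_smul (c : F) {x z : Fin 4 → F} : D.sieM (c • x) z = D.sieM x (c • z) := by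
  simp only [Bil.sieM, Bil.N, D.tau_smul_left, D.tau_smul_right]

include hs in
/-- Isometries normalise the group of Siegel transformations. -/
theorem sieGrp_conj {g : GL (Fin 4) F}
    (hg : ∀ u v, D.B ((g : Matrix (Fin 4) (Fin 4) F) *ᵥ u) ((g : Matrix (Fin 4) (Fin 4) F) *ᵥ v) = D.B u v)
    {β : GL (Fin 4) F} (hβ : β ∈ D.sieGrp) : g * β * g⁻¹ ∈ D.sieGrp := by
  induction hβ using Subgroup.closure_induction with
  | mem β hβ =>
    obtain ⟨x, z, hx, hz, rfl⟩ := hβ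
    have : g * D.sie hx hz * g⁻¹ = D.sie ((hg x x).trans hx) ((hg x z).trans hz) :=
      Units.ext (sieM_conj hs hg g.mul_inv hx hz)
    rw [this]; exact D.sie_mem _ _
  | one => simp
  | mul x y _ _ h1 h2 => simpa [mul_assoc] using mul_mem h1 h2
  | inv x _ h1 => simpa [mul_assoc] using inv_mem h1

include hs np in
/-- A matrix commuting with all Siegel transformations is scalar. -/
theorem scalar_of_comm [Finite F] {M : Matrix (Fin 4) (Fin 4) F}
    (h : ∀ g ∈ D.sieGrp, M * (g : Matrix (Fin 4) (Fin 4) F) = (g : Matrix (Fin 4) (Fin 4) F) * M) :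
    ∃ t : F, M = t • 1 := by
  refine scalar_of_isotropic_eigen hs np fun x hxx => ?_
  rcases eq_or_ne x 0 with rfl | hx0
  · simp
  obtain ⟨y, -, hyy, hxy⟩ := D.ndOn_top.partner D (x := x) trivial hx0 hxx
  have hU := D.ndOn_top.cut_pair D (x := x) (y := y) trivial trivial hxx hyy hxy
  have hd := D.finrank_cut ⊤ x y
  rw [Bil.finrank_top_eq] at hd
  obtain ⟨z, hz, hzz⟩ := hU.aniso D hs (Bil.ne_bot_of_pos (by omega))
  obtain ⟨-, hxz, hyz⟩ := D.mem_cut.1 hz
  have h1 := h _ (D.sie_mem hxx hxz)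
  have h2 := h _ (D.sie_mem (z := -z) hxx (by rw [map_neg, hxz, neg_zero]))
  simp only [Bil.sie_val, Bil.sieM, D.N_neg, neg_mul_neg, mul_add, add_mul, mul_one, one_mul, mul_neg,
    neg_mul] at h1 h2
  have hN : M * D.N x z = D.N x z * M := by
    have h3 : (2 : F) • (M * D.N x z) = (2 : F) • (D.N x z * M) := by
      rw [two_smul, two_smul]
      linear_combination (norm := abel) h1 - h2
    exact smul_right_injective _ D.two h3
  have hNN : M * (D.N x z * D.N x z) = D.N x z * D.N x z * M := by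
    rw [← mul_assoc, hN, mul_assoc, hN, mul_assoc]
  rw [D.N_sq hxx hxz, hs, one_mul, mul_smul_comm, smul_mul_assoc] at hNN
  have h4 := congrArg (· *ᵥ y) (smul_right_injective _ (neg_ne_zero.2 hzz) hNN)
  simp only [← Matrix.mulVec_mulVec, Bil.tau_mulVec, hxy, one_smul] at h4
  rw [h4]
  exact Submodule.smul_mem _ _ (Submodule.mem_span_singleton_self x)

variable [Finite F] (h5 : 5 ≤ Nat.card F)
include hs np h5

/-- Every Siegel transformation is a commutator with one of its translates. -/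
theorem sie_eq_commutator {x z : Fin 4 → F} (hx : D.B x x = 0) (hz : D.B x z = 0) :
    ∃ (g : GL (Fin 4) F) (z' : Fin 4 → F) (hz' : D.B x z' = 0),
      g ∈ D.sieGrp ∧ D.sie hx hz = g * D.sie hx hz' * g⁻¹ * (D.sie hx hz')⁻¹ := by
  rcases eq_or_ne x 0 with rfl | hx0
  · refine ⟨1, z, hz, one_mem _, ?_⟩
    have h1 : D.sie hx hz = 1 := Units.ext (Matrix.ext_iff_mulVec.2 fun v => by
      rw [Bil.sie_val, D.sieM_mulVec hx hz]; simp)
    simp [h1]
  obtain ⟨c, hc, hc1⟩ := exists_param h5 (one_ne_zero (α := F)) 1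
  rw [one_mul] at hc1
  obtain ⟨g, hg, hgx⟩ := D.moves (fun _ => le_refl 4) hx0 (smul_ne_zero hc hx0) hx (by simp [hx])
  have hgi := D.sieGrp_iso hg
  set P : Submodule F (Fin 4 → F) := LinearMap.ker (D.B x)
  have hP : ∀ v ∈ P, ((c • (g : Matrix (Fin 4) (Fin 4) F) - 1).mulVecLin) v ∈ P := fun v hv => by
    have h1 : D.B (c • x) ((g : Matrix (Fin 4) (Fin 4) F) *ᵥ v) = 0 := by
      rw [← hgx, hgi]; exact hv
    rw [map_smul, LinearMap.smul_apply, smul_eq_mul] at h1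
    rw [LinearMap.mem_ker, Matrix.mulVecLin_apply, Matrix.sub_mulVec, Matrix.smul_mulVec, Matrix.one_mulVec,
      map_sub, map_smul, (mul_eq_zero.1 h1).resolve_left hc, smul_zero, show D.B x v = 0 from hv, sub_zero]
  set L : P →ₗ[F] P := (c • (g : Matrix (Fin 4) (Fin 4) F) - 1).mulVecLin.restrict hP
  have hL : Function.Injective L := (injective_iff_map_eq_zero L).2 fun v hv => Subtype.ext <| by
    have h1 : ((c • (g : Matrix (Fin 4) (Fin 4) F) - 1).mulVecLin) (v : Fin 4 → F) = 0 := congrArg Subtype.val hv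
    rw [Matrix.mulVecLin_apply, Matrix.sub_mulVec, Matrix.smul_mulVec, Matrix.one_mulVec, sub_eq_zero] at h1
    have h2 : D.B (v : Fin 4 → F) v = 0 := by
      have h3 := hgi v v
      have h4 : c * c * D.B ((g : Matrix (Fin 4) (Fin 4) F) *ᵥ (v : Fin 4 → F))
          ((g : Matrix (Fin 4) (Fin 4) F) *ᵥ (v : Fin 4 → F)) = D.B (v : Fin 4 → F) v := by
        conv_rhs => rw [← h1]
        simp [mul_assoc]
      rw [h3] at h4
      exact (mul_eq_zero.1 (show (c * c - 1) * D.B (v : Fin 4 → F) v = 0 by linear_combination h4)).resolve_left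
        (sub_ne_zero.2 hc1)
    obtain ⟨r, hr⟩ := Submodule.mem_span_singleton.1 (np x v hx0 hx h2 v.2)
    rw [← hr, Matrix.mulVec_smul, hgx, smul_smul, smul_smul] at h1
    have h6 : (c * r * c - r) • x = 0 := by rw [sub_smul, h1, sub_self]
    have h7 := (smul_eq_zero.1 h6).resolve_right hx0
    have hr0 : r = 0 := (mul_eq_zero.1 (show (c * c - 1) * r = 0 by linear_combination h7)).resolve_left
      (sub_ne_zero.2 hc1)
    rw [← hr, hr0, zero_smul]; rfl
  obtain ⟨⟨z', hz'⟩, hLz⟩ := LinearMap.surjective_of_injective hL ⟨z, hz⟩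
  replace hz' : D.B x z' = 0 := hz'
  refine ⟨g, z', hz', hg, Units.ext ?_⟩
  have hzz : (c • (g : Matrix (Fin 4) (Fin 4) F) - 1) *ᵥ z' = z := congrArg Subtype.val hLz
  rw [Units.val_mul, Units.val_mul, Units.val_mul, D.sie_inv, Bil.sie_val, Bil.sie_val, Bil.sie_val,
    sieM_conj hs hgi g.mul_inv hx hz', hgx, sieM_smul c,
    sieM_add hs hx (by
      have h1 : D.B (c • x) ((g : Matrix (Fin 4) (Fin 4) F) *ᵥ z') = 0 := by rw [← hgx, hgi]; exact hz'
      simpa using h1) (by rw [map_neg, show D.B x z' = 0 from hz', neg_zero])]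
  congr 1
  rw [← hzz, Matrix.sub_mulVec, Matrix.smul_mulVec, Matrix.one_mulVec, sub_eq_add_neg]

/-- The homomorphisms into commutative groups are trivial. -/
theorem hom_trivial {G : Type*} [Group G] (φ : D.sieGrp →* G) (hc : ∀ a b, Commute (φ a) (φ b))
    (g : D.sieGrp) : φ g = 1 := by
  obtain ⟨g, hg⟩ := g
  induction hg using Subgroup.closure_induction with
  | mem g hg =>
    obtain ⟨x, z, hx, hz, rfl⟩ := hg
    obtain ⟨h, z', hz', hh, he⟩ := sie_eq_commutator hs np h5 hx hz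
    have : (⟨D.sie hx hz, D.sie_mem hx hz⟩ : D.sieGrp) =
        ⟨h, hh⟩ * ⟨_, D.sie_mem hx hz'⟩ * (⟨h, hh⟩ : D.sieGrp)⁻¹ * (⟨_, D.sie_mem hx hz'⟩ : D.sieGrp)⁻¹ :=
      Subtype.ext he
    rw [this, map_mul, map_mul, map_mul, map_inv, map_inv, (hc _ _).eq, mul_inv_cancel_right, mul_inv_cancel]
  | one => exact map_one φ
  | mul x y hx hy h1 h2 =>
    exact (congrArg φ (Subtype.ext rfl : (⟨x * y, _⟩ : D.sieGrp) = ⟨x, hx⟩ * ⟨y, hy⟩)).trans
      (by rw [map_mul, h1, h2, mul_one])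
  | inv x hx h1 =>
    exact (congrArg φ (Subtype.ext rfl : (⟨x⁻¹, _⟩ : D.sieGrp) = (⟨x, hx⟩ : D.sieGrp)⁻¹)).trans
      (by rw [map_inv, h1, inv_one])

omit h5 in
/-- Two Siegel transformations whose commutator is not scalar. -/
theorem exists_noncomm : ∃ β ∈ D.sieGrp, ∃ β' ∈ D.sieGrp,
    ∀ t : F, ((β * β' * β⁻¹ * β'⁻¹ : GL (Fin 4) F) : Matrix (Fin 4) (Fin 4) F) ≠ t • 1 := by
  obtain ⟨x, y, z, hx0, hxx, hyy, hxy, hxz, hyz, hzz⟩ := exists_pair hs
  refine ⟨_, D.sie_mem hxx hxz, _, D.sie_mem hyy hyz, fun t ht => ?_⟩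
  have h1 : (D.sie hxx hxz * D.sie hyy hyz : GL (Fin 4) F) =
      (D.sie hxx hxz * D.sie hyy hyz * (D.sie hxx hxz)⁻¹ * (D.sie hyy hyz)⁻¹) *
        (D.sie hyy hyz * D.sie hxx hxz) := by group
  have h2 := congrArg (fun u : GL (Fin 4) F => (u : Matrix (Fin 4) (Fin 4) F) *ᵥ x) h1
  simp only [Units.val_mul (_ * _) (D.sie hyy hyz * D.sie hxx hxz), ht] at h2
  simp only [Units.val_mul, Bil.sie_val, ← Matrix.mulVec_mulVec, Matrix.smul_mulVec, Matrix.one_mulVec,
    D.sieM_self hxx hxz] at h2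
  set w := D.sieM y z *ᵥ x with hw
  rw [D.sieM_mulVec hxx hxz] at h2
  have hwx : D.B x w = -(D.B z z / 2) := by
    rw [hw, D.sieM_mulVec hyy hyz, hs]
    simp [hxx, hxy, hxz, D.comm hxz, D.symm' hs x y]
    ring
  have hwne : D.B x w ≠ 0 := by rw [hwx]; exact neg_ne_zero.2 (div_ne_zero hzz D.two)
  have e1 := congrArg (D.B x) h2
  have e2 := congrArg (D.B z) h2
  simp [hxx, hxz, D.comm hxz, hs] at e1 e2
  have ht1 : t = 1 := mul_right_cancel₀ hwne (by rw [one_mul]; exact e1.symm)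
  subst ht1
  simp at e2
  exact e2.elim hwne hzz

/-- A normalised group of isometries with a non-scalar member contains all Siegel transformations. -/
theorem sieGrp_le_of_normalised (S : Subgroup (GL (Fin 4) F))
    (hiso : ∀ s ∈ S, ∀ u v, D.B ((s : Matrix (Fin 4) (Fin 4) F) *ᵥ u) ((s : Matrix (Fin 4) (Fin 4) F) *ᵥ v) =
      D.B u v)
    (hnorm : ∀ g ∈ D.sieGrp, ∀ s ∈ S, g * s * g⁻¹ ∈ S)
    (hne : ∃ s ∈ S, ∀ t : F, (s : Matrix (Fin 4) (Fin 4) F) ≠ t • 1) : D.sieGrp ≤ S := by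
  obtain ⟨a, ha, hans⟩ := hne
  obtain ⟨x, hxx, hax⟩ : ∃ x, D.B x x = 0 ∧ (a : Matrix (Fin 4) (Fin 4) F) *ᵥ x ∉ Submodule.span F {x} := by
    by_contra hc
    push Not at hc
    obtain ⟨t, ht⟩ := scalar_of_isotropic_eigen hs np hc
    exact hans t ht
  have hx0 : x ≠ 0 := fun h => hax (by simp [h])
  set y := (a : Matrix (Fin 4) (Fin 4) F) *ᵥ x with hy
  have hyy : D.B y y = 0 := (hiso a ha x x).trans hxx
  have hnon : ∀ v, D.B v v = 0 → v ∉ Submodule.span F {x} → D.B x v ≠ 0 := fun v hv hvx h =>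
    hvx (np x v hx0 hxx hv h)
  have hc := hnon y hyy hax
  -- every isotropic line is an image of the line of `x`
  have htrans : ∀ v, D.B v v = 0 → ∃ s ∈ S, ∃ r : F, v = r • ((s : Matrix (Fin 4) (Fin 4) F) *ᵥ x) := by
    intro v hv
    by_cases hvx : v ∈ Submodule.span F {x}
    · obtain ⟨r, rfl⟩ := Submodule.mem_span_singleton.1 hvx
      exact ⟨1, one_mem _, r, by simp⟩
    have hd := hnon v hv hvx
    set c := D.B x y with hcdef
    set v' := (c / D.B x v) • v with hv'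
    have hxv' : D.B x v' = c := by rw [hv', map_smul, smul_eq_mul, div_mul_cancel₀ _ hd]
    have hz : D.B x (c⁻¹ • (y - v')) = 0 := by rw [map_smul, map_sub, hxv', ← hcdef, sub_self, smul_zero]
    set g := D.sie hxx hz with hg
    have hgx : (g : Matrix (Fin 4) (Fin 4) F) *ᵥ x = x := D.sieM_self hxx hz
    have hgy : (g : Matrix (Fin 4) (Fin 4) F) *ᵥ y = v' := by
      rw [hg, Bil.sie_val, D.sieM_mulVec hxx hz, ← hcdef, hs]
      have hv'v' : D.B v' v' = 0 := by simp [hv', hv]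
      simp only [map_smul, map_sub, LinearMap.smul_apply, LinearMap.sub_apply, smul_eq_mul, hyy, hv'v',
        D.symm' hs y v']
      have := D.two
      match_scalars <;> field_simp <;> ring
    refine ⟨g * a * g⁻¹, hnorm g (D.sie_mem _ _) a ha, (c / D.B x v)⁻¹, ?_⟩
    have hgx' : ((g⁻¹ : GL (Fin 4) F) : Matrix (Fin 4) (Fin 4) F) *ᵥ x = x := by
      conv_lhs => rw [← hgx]
      rw [Matrix.mulVec_mulVec, ← Units.val_mul, inv_mul_cancel, Units.val_one, Matrix.one_mulVec]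
    rw [Units.val_mul, Units.val_mul, ← Matrix.mulVec_mulVec, ← Matrix.mulVec_mulVec, hgx', ← hy, hgy, hv',
      inv_smul_smul₀ (div_ne_zero hc hd)]
  let P : Subgroup (GL (Fin 4) F) :=
    { carrier := {g | ∃ s ∈ S, ∃ (z : Fin 4 → F) (hz : D.B x z = 0), g = s * D.sie hxx hz}
      one_mem' := ⟨1, one_mem _, 0, map_zero _, Units.ext (Matrix.ext_iff_mulVec.2 fun v => by
        simp [Bil.sie_val, D.sieM_mulVec hxx (map_zero _)])⟩
      mul_mem' := by
        rintro _ _ ⟨s, hs', z, hz, rfl⟩ ⟨s', hs'', z', hz', rfl⟩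
        refine ⟨s * (D.sie hxx hz * s' * (D.sie hxx hz)⁻¹),
          mul_mem hs' (hnorm _ (D.sie_mem _ _) _ hs''), z + z', by rw [map_add, hz, hz', add_zero], ?_⟩
        have : (D.sie hxx (show D.B x (z + z') = 0 by rw [map_add, hz, hz', add_zero])) =
            D.sie hxx hz * D.sie hxx hz' := Units.ext (sieM_add hs hxx hz hz').symm
        rw [this]; group
      inv_mem' := by
        rintro _ ⟨s, hs', z, hz, rfl⟩
        refine ⟨(D.sie hxx hz)⁻¹ * s⁻¹ * ((D.sie hxx hz)⁻¹)⁻¹,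
          hnorm _ (inv_mem (D.sie_mem _ _)) _ (inv_mem hs'), -z, by rw [map_neg, hz, neg_zero], ?_⟩
        rw [← D.sie_inv hxx hz]; group }
  have hgen : ∀ u z (hu : D.B u u = 0) (hz : D.B u z = 0),
      ∃ s ∈ S, ∃ (z' : Fin 4 → F) (hz' : D.B x z' = 0), D.sie hu hz = s * D.sie hxx hz' * s⁻¹ := by
    intro u z hu hz
    obtain ⟨s, hsS, r, hr⟩ := htrans u hu
    have hsi := hiso s hsS
    have hback : (s : Matrix (Fin 4) (Fin 4) F) *ᵥ
        (((s⁻¹ : GL (Fin 4) F) : Matrix (Fin 4) (Fin 4) F) *ᵥ (r • z)) = r • z := by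
      rw [Matrix.mulVec_mulVec, ← Units.val_mul, mul_inv_cancel, Units.val_one, Matrix.one_mulVec]
    have hz' : D.B x (((s⁻¹ : GL (Fin 4) F) : Matrix (Fin 4) (Fin 4) F) *ᵥ (r • z)) = 0 := by
      rw [← hsi, hback, map_smul, smul_eq_mul]
      rw [hr, map_smul, LinearMap.smul_apply, smul_eq_mul] at hz
      exact hz
    refine ⟨s, hsS, _, hz', Units.ext ?_⟩
    rw [Units.val_mul, Units.val_mul, Bil.sie_val, Bil.sie_val, sieM_conj hs hsi s.mul_inv hxx hz', hback,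
      ← sieM_smul, ← hr]
  have hP : D.sieGrp ≤ P := (Subgroup.closure_le _).2 (by
    rintro _ ⟨u, z, hu, hz, rfl⟩
    obtain ⟨s, hsS, z', hz', e⟩ := hgen u z hu hz
    rw [e]
    refine ⟨s * (D.sie hxx hz' * s⁻¹ * (D.sie hxx hz')⁻¹),
      mul_mem hsS (hnorm _ (D.sie_mem _ _) _ (inv_mem hsS)), z', hz', ?_⟩
    group)
  have hU : ∀ z (hz : D.B x z = 0), D.sie hxx hz ∈ S := by
    intro z hz
    obtain ⟨g, z', hz', hgG, e⟩ := sie_eq_commutator hs np h5 hxx hz
    obtain ⟨s, hsS, w, hw, rfl⟩ := hP hgG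
    rw [e]
    have hcomm : D.sie hxx hw * D.sie hxx hz' * (D.sie hxx hw)⁻¹ = D.sie hxx hz' := by
      rw [mul_inv_eq_iff_eq_mul]
      exact Units.ext (by rw [Units.val_mul, Units.val_mul, Bil.sie_val, Bil.sie_val, sieM_add hs hxx hw hz',
        sieM_add hs hxx hz' hw, add_comm])
    have e2 : s * D.sie hxx hw * D.sie hxx hz' * (s * D.sie hxx hw)⁻¹ =
        s * (D.sie hxx hw * D.sie hxx hz' * (D.sie hxx hw)⁻¹) * s⁻¹ := by group
    rw [e2, hcomm, show s * D.sie hxx hz' * s⁻¹ * (D.sie hxx hz')⁻¹ =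
      s * (D.sie hxx hz' * s⁻¹ * (D.sie hxx hz')⁻¹) by group]
    exact mul_mem hsS (hnorm _ (D.sie_mem _ _) _ (inv_mem hsS))
  rw [Bil.sieGrp, Subgroup.closure_le]
  rintro _ ⟨u, z, hu, hz, rfl⟩
  obtain ⟨s, hsS, z', hz', e⟩ := hgen u z hu hz
  rw [e]
  exact mul_mem (mul_mem hsS (hU z' hz')) (inv_mem hsS)

end Cfsg.Agent.H69.OmegaTwelve.Tens
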