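import Cfsg.Agent.H24.Tensor.Sys
import Cfsg.Agent.H69.OmegaTwelve.Tens.Small

/-!
Blocks of endomorphisms of `F^3 ⊗ F^4` along an orthogonal frame of the first factor.
-/

set_option autoImplicit false

namespace Cfsg.Agent.H69.OmegaTwelve.Tens

open Module Matrix Cfsg.Agent.H24.Tensor Cfsg.Agent.H98.TensorGL

variable {F : Type*} [Field F]

/-- Endomorphisms of `F^3 ⊗ F^4`. -/
abbrev En (F : Type*) [Field F] := Module.End F (T F 3 4)

/-- Units among the endomorphisms. -/
abbrev Un (F : Type*) [Field F] := (Module.End F (T F 3 4))ˣ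

/-- `v ↦ v ⊗ u`. -/
def pureL (u : Fin 3 → F) : (Fin 4 → F) →ₗ[F] T F 3 4 where
  toFun v := pure v u
  map_add' v w := pure_add v w u
  map_smul' c v := pure_smul c v u

theorem pureL_apply (u : Fin 3 → F) (v : Fin 4 → F) : pureL u v = pure v u := rfl

theorem pure_neg_left (v : Fin 4 → F) (u : Fin 3 → F) : pure (-v) u = -(pure v u) := by
  rw [← neg_one_smul F v, pure_smul, neg_one_smul]

variable (A : Bil F 3)

/-- Pairing with `e` in the first factor. -/
noncomputable def bl (e : Fin 3 → F) : T F 3 4 →ₗ[F] (Fin 4 → F) :=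
  ∑ k, A.B e (Pi.single k 1) • LinearMap.proj k

theorem bl_pure (e : Fin 3 → F) (v : Fin 4 → F) (u : Fin 3 → F) : bl A e (pure v u) = A.B e u • v := by
  conv_rhs => rw [pi_eq_sum_univ' u]
  simp only [bl, LinearMap.sum_apply, LinearMap.smul_apply, LinearMap.proj_apply, pure_apply, map_sum, map_smul,
    Finset.sum_smul, smul_eq_mul, smul_smul, mul_comm]

/-- The `(e, f)` block. -/
noncomputable def comp (h : En F) (e f : Fin 3 → F) : Matrix (Fin 4) (Fin 4) F :=
  LinearMap.toMatrix' ((A.B e e)⁻¹ • (bl A e ∘ₗ h ∘ₗ pureL f))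

theorem comp_mulVec (h : En F) (e f : Fin 3 → F) (v : Fin 4 → F) :
    comp A h e f *ᵥ v = (A.B e e)⁻¹ • bl A e (h (pure v f)) := LinearMap.toMatrix'_mulVec _ _

variable {A}

theorem comp_of_apply {h : En F} {e : Fin 3 → F} (he : A.B e e ≠ 0) {f : Fin 3 → F}
    {M : Matrix (Fin 4) (Fin 4) F} {w : Fin 3 → F}
    (hf : ∀ v, h (pure v f) = pure (M *ᵥ v) w) : comp A h e f = (A.B e w / A.B e e) • M :=
  Matrix.ext_iff_mulVec.2 fun v => by
    rw [comp_mulVec, hf, bl_pure, Matrix.smul_mulVec, smul_smul, div_eq_inv_mul]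

theorem pureL_inj {e : Fin 3 → F} (he : A.B e e ≠ 0) {v w : Fin 4 → F}
    (h : (pure v e : T F 3 4) = pure w e) : v = w := by
  have h1 := congrArg (bl A e) h
  rw [bl_pure, bl_pure] at h1
  exact smul_right_injective _ he h1

/-- Some value of a half turn on a pure tensor. -/
theorem t_apply {u : Fin 3 → F} (hu : A.B u u ≠ 0) (v : Fin 4 → F) (x : Fin 3 → F) :
    ((ltU (rotGL A hu) : Un F) : En F) (pure v x) = pure v (rot A u *ᵥ x) := by
  rw [ltU_val, rotGL_val, lt_pure]

theorem t_sq {u : Fin 3 → F} (hu : A.B u u ≠ 0) : (ltU (rotGL A hu) : Un F) * ltU (rotGL A hu) = 1 := by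
  rw [← map_mul, show rotGL A hu * rotGL A hu = 1 from Units.ext (rot_sq A hu), map_one]

theorem t_inv {u : Fin 3 → F} (hu : A.B u u ≠ 0) : (ltU (rotGL A hu) : Un F)⁻¹ = ltU (rotGL A hu) :=
  inv_eq_of_mul_eq_one_right (t_sq hu)

theorem ltU_rtU_commute (P : GL (Fin 3) F) (Q : GL (Fin 4) F) : Commute (ltU P : Un F) (rtU Q) :=
  Units.ext (lt_rt_comm _ _)

theorem rtU_apply (Q : GL (Fin 4) F) (v : Fin 4 → F) (x : Fin 3 → F) :
    ((rtU Q : Un F) : En F) (pure v x) = pure ((Q : Matrix (Fin 4) (Fin 4) F) *ᵥ v) x := by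
  rw [rtU_val, rt_pure]

/-- Fixes `F^4 ⊗ e` pointwise. -/
def Fix (e : Fin 3 → F) (h : En F) : Prop := ∀ v, h (pure v e) = pure v e

variable (hs : A.s = 1) {e f g : Fin 3 → F} (fr : Frame A e f g)
include hs fr

theorem Frame.decomp (m : T F 3 4) : m = pure ((A.B e e)⁻¹ • bl A e m) e + pure ((A.B f f)⁻¹ • bl A f m) f +
    pure ((A.B g g)⁻¹ • bl A g m) g := by
  have key : (LinearMap.id : T F 3 4 →ₗ[F] T F 3 4) =
      pureL e ∘ₗ ((A.B e e)⁻¹ • bl A e) + pureL f ∘ₗ ((A.B f f)⁻¹ • bl A f) +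
        pureL g ∘ₗ ((A.B g g)⁻¹ • bl A g) := ext_pure fun v u => by
    simp only [LinearMap.id_apply, LinearMap.add_apply, LinearMap.comp_apply, LinearMap.smul_apply, bl_pure,
      pureL_apply, smul_smul, pure_smul', ← map_add, ← div_eq_inv_mul]
    rw [← fr.expand hs u]
  exact LinearMap.congr_fun key m

theorem Frame.apply (h : En F) (v : Fin 4 → F) (x : Fin 3 → F) :
    h (pure v x) = pure (comp A h e x *ᵥ v) e + pure (comp A h f x *ᵥ v) f + pure (comp A h g x *ᵥ v) g := by
  rw [comp_mulVec, comp_mulVec, comp_mulVec, ← fr.decomp hs]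

theorem Frame.ext_op {h h' : En F} (he : ∀ v, h (pure v e) = h' (pure v e))
    (hf : ∀ v, h (pure v f) = h' (pure v f)) (hg : ∀ v, h (pure v g) = h' (pure v g)) : h = h' :=
  LinearMap.ext fun m => by
    rw [fr.decomp hs m]
    simp only [map_add, he, hf, hg]

theorem Frame.ext_units {h h' : Un F} (he : ∀ v, (h : En F) (pure v e) = (h' : En F) (pure v e))
    (hf : ∀ v, (h : En F) (pure v f) = (h' : En F) (pure v f))
    (hg : ∀ v, (h : En F) (pure v g) = (h' : En F) (pure v g)) : h = h' :=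
  Units.ext (fr.ext_op hs he hf hg)

theorem Frame.comp_mul (h h' : En F) (x y : Fin 3 → F) :
    comp A (h * h') x y = comp A h x e * comp A h' e y + comp A h x f * comp A h' f y +
      comp A h x g * comp A h' g y :=
  Matrix.ext_iff_mulVec.2 fun v => by
    rw [comp_mulVec, Module.End.mul_apply, fr.apply hs h' v y, map_add, map_add, map_add, map_add, smul_add,
      smul_add, ← comp_mulVec, ← comp_mulVec, ← comp_mulVec, Matrix.add_mulVec, Matrix.add_mulVec,
      ← Matrix.mulVec_mulVec, ← Matrix.mulVec_mulVec, ← Matrix.mulVec_mulVec]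

theorem Frame.fix_t {m : T F 3 4} (hm : lt (rot A e) m = m) : m = pure ((A.B e e)⁻¹ • bl A e m) e := by
  have hd := fr.decomp hs m
  set p := (A.B e e)⁻¹ • bl A e m
  set q := (A.B f f)⁻¹ • bl A f m
  set r := (A.B g g)⁻¹ • bl A g m
  clear_value p q r
  subst hd
  rw [map_add, map_add, lt_pure, lt_pure, lt_pure, rot_self A fr.e0, rot_perp A fr.ef, rot_perp A fr.eg,
    map_neg, map_neg] at hm
  have h2 : (2 : F) • (pure q f + pure r g) = (0 : T F 3 4) := by
    linear_combination (norm := module) -hm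
  have h3 := (smul_eq_zero.1 h2).resolve_left A.two
  rw [add_assoc, h3, add_zero]

/-- Elements commuting with a half turn preserve its block. -/
theorem Frame.block_of_commute {h : Un F} (hc : Commute h (ltU (rotGL A fr.e0))) (v : Fin 4 → F) :
    (h : En F) (pure v e) = pure (comp A (h : En F) e e *ᵥ v) e := by
  rw [comp_mulVec]
  refine fr.fix_t hs ?_
  have h1 := LinearMap.congr_fun (congrArg Units.val hc.eq) (pure v e)
  rw [Units.val_mul, Units.val_mul, Module.End.mul_apply, Module.End.mul_apply, t_apply, rot_self A fr.e0,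
    ltU_val, rotGL_val] at h1
  exact h1.symm

section Forms

variable {S : Sys F 3 4} (hA : S.A = A)
include hA

theorem Frame.comp_adj {h h' : En F} (hiso : S.Iso h) (hh : h * h' = 1) {x y : Fin 3 → F}
    (hx : x = e ∨ x = f ∨ x = g) (hy : y = e ∨ y = f ∨ y = g) (v w : Fin 4 → F) :
    A.B x x * S.D.B (comp A h x y *ᵥ v) w = A.B y y * S.D.B v (comp A h' y x *ᵥ w) := by
  have h1 : S.Bt (h (pure v y)) (pure w x) = A.B x x * S.D.B (comp A h x y *ᵥ v) w := by
    rw [fr.apply hs h v y, map_add, map_add, LinearMap.add_apply, LinearMap.add_apply, S.Bt_pure_pure,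
      S.Bt_pure_pure, S.Bt_pure_pure, hA]
    rcases hx with rfl | rfl | rfl <;>
      simp [fr.ef, fr.eg, fr.fg, fr.fe hs, fr.ge hs, fr.gf hs] <;> ring
  have h2 : S.Bt (h (pure v y)) (pure w x) = S.Bt (pure v y) (h' (pure w x)) := by
    conv_lhs => rw [show pure w x = h (h' (pure w x)) by rw [← Module.End.mul_apply, hh, Module.End.one_apply]]
    exact hiso _ _
  have h3 : S.Bt (pure v y) (h' (pure w x)) = A.B y y * S.D.B v (comp A h' y x *ᵥ w) := by
    rw [fr.apply hs h' w x, map_add, map_add, S.Bt_pure_pure, S.Bt_pure_pure, S.Bt_pure_pure, hA]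
    rcases hy with rfl | rfl | rfl <;>
      simp [fr.ef, fr.eg, fr.fg, fr.fe hs, fr.ge hs, fr.gf hs] <;> ring
  rw [← h1, h2, h3]

/-- An isometry preserving a block preserves its orthogonal and commutes with the half turn. -/
theorem Frame.commute_of_block {h : Un F} (hiso : S.Iso (h : En F))
    (hb : ∀ v, (h : En F) (pure v e) = pure (comp A (h : En F) e e *ᵥ v) e) :
    Commute h (ltU (rotGL A fr.e0)) := by
  set C := comp A (h : En F) e e with hC
  have hsur : ∀ w, ∃ v, C *ᵥ v = w := by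
    have hinj : Function.Injective C.mulVecLin := fun v v' hv => pureL_inj fr.e0 <|
      units_injective h <| by rw [hb, hb]; exact congrArg (pure · e) hv
    exact LinearMap.surjective_of_injective hinj
  have hzero : ∀ x, A.B e x = 0 → ∀ v, bl A e ((h : En F) (pure v x)) = 0 := fun x hx v =>
    S.D.nd _ fun w => by
      obtain ⟨w', rfl⟩ := hsur w
      have h1 := hiso (pure v x) (pure w' e)
      rw [hb, fr.apply hs (h : En F) v x, map_add, map_add, LinearMap.add_apply, LinearMap.add_apply,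
        S.Bt_pure_pure, S.Bt_pure_pure, S.Bt_pure_pure, S.Bt_pure_pure, hA, A.symm' hs e x, hx, fr.fe hs, fr.ge hs,
        mul_zero, mul_zero, mul_zero, add_zero, add_zero, comp_mulVec, map_smul, LinearMap.smul_apply, smul_eq_mul,
        mul_eq_zero, mul_eq_zero, inv_eq_zero] at h1
      exact (h1.resolve_right fr.e0).resolve_left fr.e0
  have hperp : ∀ x, A.B e x = 0 → ∀ v,
      lt (rot A e) ((h : En F) (pure v x)) = (h : En F) (-pure v x) := by
    intro x hx v
    have h0 : comp A (h : En F) e x *ᵥ v = 0 := by rw [comp_mulVec, hzero x hx, smul_zero]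
    rw [map_neg, fr.apply hs (h : En F) v x, h0, pure_zero, zero_add, map_add, lt_pure, lt_pure,
      rot_perp A fr.ef, rot_perp A fr.eg, map_neg, map_neg, neg_add]
  refine fr.ext_units hs (fun v => ?_) (fun v => ?_) (fun v => ?_)
  · rw [Units.val_mul, Units.val_mul, Module.End.mul_apply, Module.End.mul_apply, t_apply, rot_self A fr.e0, hb,
      t_apply, rot_self A fr.e0]
  · rw [Units.val_mul, Units.val_mul, Module.End.mul_apply, Module.End.mul_apply, t_apply, rot_perp A fr.ef,
      map_neg, ltU_val, rotGL_val, hperp f fr.ef]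
  · rw [Units.val_mul, Units.val_mul, Module.End.mul_apply, Module.End.mul_apply, t_apply, rot_perp A fr.eg,
      map_neg, ltU_val, rotGL_val, hperp g fr.eg]

/-- The block of an isometry preserving it is an isometry. -/
theorem Frame.block_iso {h : En F} (hiso : S.Iso h) (hb : ∀ v, h (pure v e) = pure (comp A h e e *ᵥ v) e)
    (v w : Fin 4 → F) : S.D.B (comp A h e e *ᵥ v) (comp A h e e *ᵥ w) = S.D.B v w := by
  have h1 := hiso (pure v e) (pure w e)
  rw [hb, hb, S.Bt_pure_pure, S.Bt_pure_pure, hA] at h1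
  exact mul_right_cancel₀ fr.e0 h1

end Forms

end Cfsg.Agent.H69.OmegaTwelve.Tens
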