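import Cfsg.Agent.H69.OmegaTwelve.Tens.All
import Cfsg.Agent.H24.Tensor.Bridge
import Cfsg.Agent.H98.OrthMax.Roots

/-!
The orthogonal group inside the automorphisms of the tensor product; half turns and single blocks in Ω.
-/

set_option autoImplicit false

namespace Cfsg.Agent.H69.OmegaTwelve.Tens

open Module Matrix QuadraticMap Cfsg.Agent.H24.Tensor Cfsg.Agent.H98.TensorGL Cfsg.Agent.Orthogonal Cfsg.Agent.H96

variable {F : Type*} [Field F] {ι : Type} [Fintype ι] [DecidableEq ι]

/-- The orthogonal group acting on the tensor product. -/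
noncomputable def phi (Q : QuadraticForm F (ι → F)) (E : ι ≃ Fin 3 × Fin 4) (P : GL ι F) : O Q →* Un F :=
  (toU E P).toMonoidHom.comp (om Q)

variable {Q : QuadraticForm F (ι → F)} {E : ι ≃ Fin 3 × Fin 4} {P : GL ι F}

theorem phi_apply (k : O Q) (m : T F 3 4) :
    (phi Q E P k : En F) m = (tensorIso E P).symm ((k : (ι → F) ≃ₗ[F] (ι → F)) (tensorIso E P m)) := by
  show (toU E P (om Q k) : En F) m = _
  rw [toU_apply, om_mulVec]

theorem mem_tps_of_phi {k : O Q} :
    om Q k ∈ Cfsg.Geo.tensorProductSubgroup 3 4 E P ↔ IsTens (phi Q E P k) := mem_tps_iff E P _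

theorem phi_injective : Function.Injective (phi Q E P) :=
  (toU E P).injective.comp (om_injective Q)

variable {S : Sys F 3 4}
  (hS : ∀ x y, polar Q (tensorIso E P x) (tensorIso E P y) = S.Bt x y)
include hS

theorem phi_iso (k : O Q) : S.Iso (phi Q E P k : En F) :=
  (Sys.iso_toU (f := polar Q) hS (om Q k)).2 fun u v => by rw [om_mulVec, om_mulVec, O.polar_app]

theorem q_val (m : T F 3 4) : Q (tensorIso E P m) = S.Bt m m / 2 := by
  rw [← hS, polar_self', mul_div_cancel_left₀ _ S.two]

theorem exists_phi {u : Un F} (hu : S.Iso (u : En F)) : ∃ k : O Q, phi Q E P k = u := by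
  set g := (toU E P).symm u with hg
  have h := (Sys.iso_toU (f := polar Q) hS g).1 (by rw [hg, MulEquiv.apply_symm_apply]; exact hu)
  have hmem : g ∈ Cfsg.isometryGroup F ⇑Q := fun v _ => by
    have h1 := h v v
    rw [polar_self', polar_self'] at h1
    exact mul_left_cancel₀ S.two h1
  refine ⟨toO Q ⟨g, hmem⟩, ?_⟩
  show toU E P (om Q (toO Q ⟨g, hmem⟩)) = u
  have : om Q (toO Q ⟨g, hmem⟩) = g := by simp [om]
  rw [this, hg, MulEquiv.apply_symm_apply]

/-- The action of a reflection. -/
theorem phi_rO (p m : T F 3 4) :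
    (phi Q E P (rO Q (tensorIso E P p)) : En F) m = m - (2 * S.Bt p m / S.Bt p p) • p := by
  rw [phi_apply, rO_app, q_val hS, hS, map_sub, map_smul, LinearEquiv.symm_apply_apply, LinearEquiv.symm_apply_apply,
    inv_div, mul_comm (2 / S.Bt p p), mul_div_assoc', mul_comm (S.Bt p m) 2]

/-- The action of an Eichler transformation. -/
theorem phi_sie {u w : T F 3 4} (hu : Q (tensorIso E P u) = 0)
    (hw : polar Q (tensorIso E P u) (tensorIso E P w) = 0) (m : T F 3 4) :
    (phi Q E P (Orthogonal.sie (tensorIso E P u) (tensorIso E P w) hu hw) : En F) m =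
      m + (S.Bt w m - S.Bt w w / 2 * S.Bt u m) • u - S.Bt u m • w := by
  rw [phi_apply, sie_app, q_val hS, hS, hS, map_sub, map_add, map_smul, map_smul, LinearEquiv.symm_apply_apply,
    LinearEquiv.symm_apply_apply, LinearEquiv.symm_apply_apply]

variable (hsA : S.A.s = 1) (hsD : S.D.s = 1) (np : NoPlane S.D) [Finite F] (hQ : Nondeg Q)
include hsA hsD np hQ

/-- Minus one on a single block lies outside Ω, with determinant one and non-square spinor norm. -/
theorem exists_block_neg {e f g : Fin 3 → F} (fr : Frame S.A e f g) :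
    ∃ R : O Q, detSign Q hQ S.two R = 1 ∧ spinor Q hQ S.two R = -1 ∧
      Fix e (phi Q E P R : En F) ∧ Fix f (phi Q E P R : En F) ∧
      ∀ v, (phi Q E P R : En F) (pure v g) = -pure v g := by
  obtain ⟨x, y, z, hx0, hxx, hyy, hxy, hxz, hyz, hzz⟩ := exists_pair (D := S.D) hsD
  have hyx : S.D.B y x = 1 := by rw [S.D.symm' hsD x y, hxy]
  have hzx : S.D.B z x = 0 := S.D.comm hxz
  have hzy : S.D.B z y = 0 := S.D.comm hyz
  have hU := (S.D.ndOn_top.cut_pair S.D (x := x) (y := y) trivial trivial hxx hyy hxy).cut_aniso S.D hsD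
    (S.D.mem_cut.2 ⟨trivial, hxz, hyz⟩) hzz
  have hd := S.D.finrank_cut ⊤ x y
  rw [Bil.finrank_top_eq] at hd
  have hd1 := Bil.finrank_inf_ker_add_one (S.D.cut ⊤ x y) (S.D.B z)
  obtain ⟨z', hz', hzz'⟩ := hU.aniso S.D hsD (Bil.ne_bot_of_pos (by omega))
  obtain ⟨-, hxz', hyz'⟩ := S.D.mem_cut.1 hz'.1
  have hzz'0 : S.D.B z z' = 0 := LinearMap.mem_ker.1 hz'.2
  have hz'x : S.D.B z' x = 0 := S.D.comm hxz'
  have hz'y : S.D.B z' y = 0 := S.D.comm hyz'
  have hz'z : S.D.B z' z = 0 := S.D.comm hzz'0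
  have hns : ¬ IsSquare (-(S.D.B z z * S.D.B z' z')) := by
    rintro ⟨r, hr⟩
    have h0 : S.D.B (z' + (r / S.D.B z z) • z) (z' + (r / S.D.B z z) • z) = 0 := by
      simp [hzz'0, hz'z]
      field_simp
      linear_combination -hr
    obtain ⟨c, hc⟩ := Submodule.mem_span_singleton.1 (np x _ hx0 hxx h0 (by simp [hxz, hxz']))
    have h1 := congrArg (S.D.B z') hc
    simp [hz'z, hz'x] at h1
    exact hzz' h1.symm
  set B1 := x + y with hB1
  set B2 := x - y with hB2
  have h11 : S.D.B B1 B1 = 2 := by simp [hB1, hxx, hyy, hxy, hyx]; norm_num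
  have h22 : S.D.B B2 B2 = -2 := by simp [hB2, hxx, hyy, hxy, hyx]; norm_num
  have h12 : S.D.B B1 B2 = 0 := by simp [hB1, hB2, hxx, hyy, hxy, hyx]
  have h13 : S.D.B B1 z = 0 := by simp [hB1, hxz, hyz]
  have h14 : S.D.B B1 z' = 0 := by simp [hB1, hxz', hyz']
  have h23 : S.D.B B2 z = 0 := by simp [hB2, hxz, hyz]
  have h24 : S.D.B B2 z' = 0 := by simp [hB2, hxz', hyz']
  have h21 := S.D.comm h12
  have h31 := S.D.comm h13
  have h41 := S.D.comm h14
  have h32 := S.D.comm h23
  have h42 := S.D.comm h24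
  have hg : S.A.B g g ≠ 0 := fr.g0
  have hval : ∀ b : Fin 4 → F, S.Bt (pure b g) (pure b g) = S.D.B b b * S.A.B g g := fun b => S.Bt_pure_pure _ _ _ _
  set l : List (ι → F) := [B1, B2, z, z'].map fun b => tensorIso E P (pure b g) with hl
  have hl0 : ∀ v ∈ l, Q v ≠ 0 := by
    intro v hv
    simp only [hl, List.map_cons, List.map_nil, List.mem_cons, List.mem_nil_iff, or_false] at hv
    rcases hv with rfl | rfl | rfl | rfl <;> rw [q_val hS, hval]
    · exact div_ne_zero (mul_ne_zero (h11 ▸ S.two) hg) S.two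
    · exact div_ne_zero (mul_ne_zero (h22 ▸ neg_ne_zero.2 S.two) hg) S.two
    · exact div_ne_zero (mul_ne_zero hzz hg) S.two
    · exact div_ne_zero (mul_ne_zero hzz' hg) S.two
  have hlen : l.length = 4 := rfl
  have hact : ∀ (u : Fin 3 → F) (b v : Fin 4 → F),
      (phi Q E P (rO Q (tensorIso E P (pure b g))) : En F) (pure v u) =
        pure v u - (2 * (S.D.B b v * S.A.B g u) / (S.D.B b b * S.A.B g g)) • pure b g := fun u b v => by
    rw [phi_rO hS, S.Bt_pure_pure, hval]
  refine ⟨(l.map (rO Q)).prod, ?_, ?_, fun v => ?_, fun v => ?_, fun v => ?_⟩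
  · rw [detSign_list hQ S.two hl0, hlen]; decide
  · rw [spinor_list hQ S.two hl0]
    refine sqSign_of_not_isSquare fun hsq => hns ?_
    obtain ⟨r, hr⟩ := hsq
    simp only [hl, List.map_cons, List.map_nil, List.prod_cons, List.prod_nil, mul_one, q_val hS, hval, h11,
      h22] at hr
    refine ⟨2 * r / (S.A.B g g * S.A.B g g), ?_⟩
    have := S.two
    field_simp at hr ⊢
    linear_combination hr
  · simp [hl, List.prod_cons, map_mul, Units.val_mul, Module.End.mul_apply, hact, fr.ge hsA]
  · simp [hl, List.prod_cons, map_mul, Units.val_mul, Module.End.mul_apply, hact, fr.gf hsA]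
  · have hv : ∀ b w : Fin 4 → F, (phi Q E P (rO Q (tensorIso E P (pure b g))) : En F) (pure w g) =
        pure (w - (2 * S.D.B b w / S.D.B b b) • b) g := fun b w => by
      rw [hact, pure_sub, pure_smul, ← mul_assoc, mul_div_mul_right _ _ hg]
    simp only [hl, List.map_cons, List.map_nil, List.prod_cons, List.prod_nil, mul_one, map_mul, Units.val_mul,
      Module.End.mul_apply, hv, map_sub, map_smul, smul_eq_mul, h12, h13, h14, h23, h24, hzz'0, h21, h31, h41,
      h32, h42, hz'z, mul_zero, zero_div, zero_smul, sub_zero]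
    rw [← pure_neg_left]
    refine congrArg (fun w => (pure w g : T F 3 4)) ?_
    -- expansion along the four orthogonal vectors
    have hexp : v = (S.D.B B1 v / 2) • B1 + (S.D.B B2 v / -2) • B2 + (S.D.B z v / S.D.B z z) • z +
        (S.D.B z' v / S.D.B z' z') • z' := by
      have hli : LinearIndependent F ![B1, B2, z, z'] := by
        rw [Fintype.linearIndependent_iff]
        intro c hc
        have hc' : c 0 • B1 + c 1 • B2 + c 2 • z + c 3 • z' = 0 := by simpa [Fin.sum_univ_four] using hc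
        have e1 := congrArg (S.D.B B1) hc'
        have e2 := congrArg (S.D.B B2) hc'
        have e3 := congrArg (S.D.B z) hc'
        have e4 := congrArg (S.D.B z') hc'
        simp [h11, h22, h12, h13, h14, h23, h24, hzz'0, h21, h31, h41, h32, h42, hz'z, hzz, hzz', S.two] at e1 e2 e3 e4
        intro i
        fin_cases i <;> assumption
      obtain ⟨c, hc⟩ := (Submodule.mem_span_range_iff_exists_fun F).1
        (show v ∈ Submodule.span F (Set.range ![B1, B2, z, z']) from
          (hli.span_eq_top_of_card_eq_finrank (by simp)).symm ▸ Submodule.mem_top)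
      have hc' : c 0 • B1 + c 1 • B2 + c 2 • z + c 3 • z' = v := by simpa [Fin.sum_univ_four] using hc
      rw [← hc']
      simp [h11, h22, h12, h13, h14, h23, h24, hzz'0, h21, h31, h41, h32, h42, hz'z, hzz, hzz', S.two, mul_div_assoc]
    rw [h11, h22]
    linear_combination (norm := module) (2 : F) • hexp

/-- Half turns lie in Ω. -/
theorem exists_turn {e : Fin 3 → F} (he : S.A.B e e ≠ 0) :
    ∃ k ∈ commutator (O Q), phi Q E P k = ltU (rotGL S.A he) := by
  obtain ⟨f, g, fr⟩ := exists_frame S.A hsA he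
  obtain ⟨R, hd, hsp, hRe, hRf, hRg⟩ := exists_block_neg hS hsA hsD np hQ fr
  obtain ⟨R', hd', hsp', hRe', hRg', hRf'⟩ := exists_block_neg hS hsA hsD np hQ (fr.swap₂₃ hsA)
  refine ⟨R * R', (mem_commutator_iff hQ S.two _).2 ⟨by rw [map_mul, hd, hd', one_mul],
    by rw [map_mul, hsp, hsp', neg_mul_neg, one_mul]⟩, fr.ext_units hsA (fun v => ?_) (fun v => ?_) fun v => ?_⟩
  all_goals rw [map_mul, Units.val_mul, Module.End.mul_apply, t_apply]
  · rw [hRe', hRe, rot_self S.A he]
  · rw [hRf', map_neg, hRf, rot_perp S.A fr.ef, map_neg]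
  · rw [hRg', hRg, rot_perp S.A fr.eg, map_neg]

end Cfsg.Agent.H69.OmegaTwelve.Tens
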