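import Cfsg.Agent.H69.OmegaTwelve.Tens.Core

/-!
Elements respecting an orthogonal frame are tensors, unless a Siegel group of a single block is contained.
-/

set_option autoImplicit false

namespace Cfsg.Agent.H69.OmegaTwelve.Tens

open Module Matrix Cfsg.Agent.H24.Tensor Cfsg.Agent.H98.TensorGL

variable {F : Type*} [Field F]

/-- The elements fixing `F^4 ⊗ e` pointwise. -/
def fixSub (e : Fin 3 → F) : Subgroup (Un F) where
  carrier := {z | Fix e (z : En F)}
  one_mem' _ := rfl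
  mul_mem' {x y} hx hy v := by rw [Units.val_mul, Module.End.mul_apply, hy, hx]
  inv_mem' {x} hx v := by conv_lhs => rw [← hx v, inv_apply_apply]

theorem mem_fixSub {e : Fin 3 → F} {z : Un F} : z ∈ fixSub e ↔ Fix e (z : En F) := Iff.rfl

/-- The elements acting on `F^4 ⊗ e` as plus or minus one. -/
def signSub (e : Fin 3 → F) : Subgroup (Un F) where
  carrier := {z | Fix e (z : En F) ∨ ∀ v, (z : En F) (pure v e) = -pure v e}
  one_mem' := Or.inl fun _ => rfl
  mul_mem' {x y} hx hy := by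
    rcases hx with hx | hx <;> rcases hy with hy | hy
    · exact Or.inl fun v => by rw [Units.val_mul, Module.End.mul_apply, hy, hx]
    · exact Or.inr fun v => by rw [Units.val_mul, Module.End.mul_apply, hy, map_neg, hx]
    · exact Or.inr fun v => by rw [Units.val_mul, Module.End.mul_apply, hy, hx]
    · exact Or.inl fun v => by rw [Units.val_mul, Module.End.mul_apply, hy, map_neg, hx, neg_neg]
  inv_mem' {x} hx := by
    rcases hx with hx | hx
    · exact Or.inl fun v => by conv_lhs => rw [← hx v, inv_apply_apply]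
    · exact Or.inr fun v => by
        conv_lhs => rw [← neg_neg (pure v e), map_neg, ← hx v, inv_apply_apply]

/-- The matrices by which the members of `C` act on `F^4 ⊗ g`. -/
def img (g : Fin 3 → F) (C : Subgroup (Un F)) : Subgroup (GL (Fin 4) F) where
  carrier := {Q | ∃ z ∈ C, ∀ v, (z : En F) (pure v g) = pure ((Q : Matrix (Fin 4) (Fin 4) F) *ᵥ v) g}
  one_mem' := ⟨1, one_mem _, fun v => by simp⟩
  mul_mem' := by
    rintro P Q ⟨x, hx, hP⟩ ⟨y, hy, hQ⟩
    exact ⟨x * y, mul_mem hx hy, fun v => by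
      rw [Units.val_mul, Module.End.mul_apply, hQ, hP, Units.val_mul, Matrix.mulVec_mulVec]⟩
  inv_mem' := by
    rintro P ⟨x, hx, hP⟩
    refine ⟨x⁻¹, inv_mem hx, fun v => ?_⟩
    conv_lhs => rw [show v = (P : Matrix (Fin 4) (Fin 4) F) *ᵥ (((P⁻¹ : GL (Fin 4) F) : Matrix (Fin 4) (Fin 4) F) *ᵥ v)
      by rw [Matrix.mulVec_mulVec, ← Units.val_mul, mul_inv_cancel, Units.val_one, Matrix.one_mulVec],
      ← hP, inv_apply_apply]

/-- The Siegel group of one block is contained. -/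
def Single (S : Sys F 3 4) (X : Subgroup (Un F)) : Prop :=
  ∃ e f g, Frame S.A e f g ∧ S.D.sieGrp ≤ img e (X ⊓ (fixSub f ⊓ fixSub g))

variable {S : Sys F 3 4} {X : Subgroup (Un F)} (hX : Amb S X)
include hX

theorem Amb.img_iso {e f g : Fin 3 → F} (fr : Frame S.A e f g) {C : Subgroup (Un F)} (hC : C ≤ X)
    {Q : GL (Fin 4) F} (hQ : Q ∈ img e C) (u w : Fin 4 → F) :
    S.D.B ((Q : Matrix (Fin 4) (Fin 4) F) *ᵥ u) ((Q : Matrix (Fin 4) (Fin 4) F) *ᵥ w) = S.D.B u w := by
  obtain ⟨z, hz, h⟩ := hQ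
  have h1 := hX.iso z (hC hz) (pure u e) (pure w e)
  rw [h, h, S.Bt_pure_pure, S.Bt_pure_pure] at h1
  exact mul_right_cancel₀ fr.e0 h1

variable [Finite F]

theorem Amb.sie_sq {x z : Fin 4 → F} (hx : S.D.B x x = 0) (hz : S.D.B x z = 0) :
    ∃ β ∈ S.D.sieGrp, β * β = S.D.sie hx hz := by
  have hz' : S.D.B x ((2 : F)⁻¹ • z) = 0 := by rw [map_smul, hz, smul_zero]
  refine ⟨_, S.D.sie_mem hx hz', Units.ext ?_⟩
  rw [Units.val_mul, Bil.sie_val, Bil.sie_val, sieM_add hX.sD hx hz' hz', ← add_smul]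
  congr 2
  have := S.D.two
  rw [show (2 : F)⁻¹ + (2 : F)⁻¹ = 1 by field_simp; ring, one_smul]

/-- Elements fixing one block pointwise and respecting the frame, when that block has a partner. -/
theorem Amb.tens_of_frame_fix (hns : ¬ Single S X) {e f g : Fin 3 → F} (fr : Frame S.A e f g)
    (hσ : Orthogonal.sqSign (S.A.B e e) = Orthogonal.sqSign (S.A.B f f)) {y : Un F} (hy : y ∈ X)
    (hf : Fix e (y : En F)) (hc : Commute y (ltU (rotGL S.A fr.f0))) : IsTens y := by
  have hs := hX.sA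
  have fr₁ := fr.rotate hs
  have fr₂ := fr₁.rotate hs
  set C : Subgroup (Un F) := X ⊓ (fixSub e ⊓ Subgroup.centralizer {ltU (rotGL S.A fr.f0)}) with hC
  have hmemC : ∀ {z : Un F}, z ∈ X → Fix e (z : En F) → Commute z (ltU (rotGL S.A fr.f0)) → z ∈ C :=
    fun h1 h2 h3 => ⟨h1, h2, Subgroup.mem_centralizer_singleton_iff.2 h3.eq⟩
  have hfblock : ∀ z ∈ C, ∀ v, (z : En F) (pure v f) = pure (comp S.A (z : En F) f f *ᵥ v) f := fun z hz v =>
    fr₁.block_of_commute hs (Subgroup.mem_centralizer_singleton_iff.1 hz.2.2) v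
  have hgblock : ∀ z ∈ C, ∀ v, (z : En F) (pure v g) = pure (comp S.A (z : En F) g g *ᵥ v) g := fun z hz v => by
    refine fr₂.block_of_commute hs ?_ v
    have he' := hX.commute_of_fix fr.e0 hz.1 hz.2.1
    have hf' : Commute z (ltU (rotGL S.A fr.f0)) := Subgroup.mem_centralizer_singleton_iff.1 hz.2.2
    rw [show ltU (rotGL S.A fr₂.e0) = (ltU (rotGL S.A fr.e0) : Un F) * ltU (rotGL S.A fr.f0) by
      rw [← map_mul]
      refine congrArg ltU (Units.ext (fr.ext_vec hs ?_ ?_ ?_))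
      all_goals rw [Units.val_mul, ← Matrix.mulVec_mulVec]
      all_goals simp only [rotGL_val, rot_self S.A fr.e0, rot_self S.A fr.f0, rot_self S.A fr.g0,
        rot_perp S.A fr.ef, rot_perp S.A fr.eg, rot_perp S.A (fr.fe hs), rot_perp S.A fr.fg,
        rot_perp S.A (fr.ge hs), rot_perp S.A (fr.gf hs), Matrix.mulVec_neg, neg_neg]]
    exact he'.mul_right hf'
  -- both images are normalised
  have hnorm : ∀ (h : Fin 3 → F) (C' : Subgroup (Un F)),
      (∀ β ∈ S.D.sieGrp, ∀ z ∈ C', rtU β * z * (rtU β)⁻¹ ∈ C') →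
      ∀ β ∈ S.D.sieGrp, ∀ Q ∈ img h C', β * Q * β⁻¹ ∈ img h C' := by
    rintro h C' hC' β hβ Q ⟨z, hz, hQ⟩
    refine ⟨_, hC' β hβ z hz, fun v => ?_⟩
    simp only [← map_inv, Units.val_mul, Module.End.mul_apply, rtU_apply, hQ, Matrix.mulVec_mulVec, mul_assoc]
  have hCn : ∀ β ∈ S.D.sieGrp, ∀ z ∈ C, rtU β * z * (rtU β)⁻¹ ∈ C := fun β hβ z hz => by
    refine hmemC (X.mul_mem (X.mul_mem (hX.small β hβ) hz.1) (X.inv_mem (hX.small β hβ))) (fun v => ?_) ?_
    · rw [← map_inv, Units.val_mul, Units.val_mul, Module.End.mul_apply, Module.End.mul_apply, rtU_apply, hz.2.1 _,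
        rtU_apply, Matrix.mulVec_mulVec, ← Units.val_mul, mul_inv_cancel, Units.val_one, Matrix.one_mulVec]
    · exact ((ltU_rtU_commute _ _).symm.mul_left (Subgroup.mem_centralizer_singleton_iff.1 hz.2.2)).mul_left
        ((ltU_rtU_commute _ _).symm.inv_left)
  have hgQ : ∀ z ∈ C, ∃ Q ∈ img g C, (Q : Matrix (Fin 4) (Fin 4) F) = comp S.A (z : En F) g g := fun z hz => by
    obtain ⟨Q, hQ⟩ : IsUnit (comp S.A (z : En F) g g) := Matrix.mulVec_injective_iff_isUnit.1 fun v v' hv =>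
      pureL_inj fr.g0 <| units_injective z <| by rw [hgblock z hz, hgblock z hz]; exact congrArg (pure · g) hv
    exact ⟨Q, ⟨z, hz, fun v => by rw [hQ, hgblock z hz]⟩, hQ⟩
  by_cases hbig : ∃ Q ∈ img g C, ∀ t : F, (Q : Matrix (Fin 4) (Fin 4) F) ≠ t • 1
  · have hall := sieGrp_le_of_normalised hX.sD hX.np hX.five (img g C)
      (fun Q hQ => hX.img_iso fr₂ inf_le_left hQ) (hnorm g C hCn) hbig
    obtain ⟨β, hβ, β', hβ', hne⟩ := exists_noncomm hX.sD hX.np
    obtain ⟨z, hz, hzg⟩ := hall hβ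
    obtain ⟨z', hz', hzg'⟩ := hall hβ'
    obtain ⟨r, hr⟩ : IsSquare (S.A.B e e / S.A.B f f) := by
      rw [← Orthogonal.sqSign_eq_one_iff, div_eq_mul_inv, Orthogonal.sqSign_mul S.A.two fr.e0 (inv_ne_zero fr.f0),
        hσ, ← Orthogonal.sqSign_mul S.A.two fr.f0 (inv_ne_zero fr.f0), mul_inv_cancel₀ fr.f0,
        Orthogonal.sqSign_of_isSquare IsSquare.one]
    have hr0 : r ≠ 0 := fun h0 => by
      rw [h0, mul_zero, div_eq_zero_iff] at hr
      exact hr.elim fr.e0 fr.f0
    have hrr : r * r * S.A.B f f = S.A.B e e := by rw [← hr, div_mul_cancel₀ _ fr.f0]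
    have huu : S.A.B (e + r • f) (e + r • f) = 2 * S.A.B e e := by
      simp [fr.ef, fr.fe hs]; linear_combination hrr
    have hu : S.A.B (e + r • f) (e + r • f) ≠ 0 := by rw [huu]; exact mul_ne_zero S.A.two fr.e0
    set p : Un F := ltU (rotGL S.A hu) with hp
    have hpf : ∀ v, (p : En F) (pure v f) = pure (r⁻¹ • v) e := fun v => by
      rw [t_apply, rot_mulVec, huu, pure_smul']
      congr 1
      simp [fr.ef, fr.fe hs]
      rw [show 2 * (r * S.A.B f f) / (2 * S.A.B e e) = r⁻¹ by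
        have := S.A.two; have := fr.e0; field_simp; linear_combination hrr]
      match_scalars <;> field_simp <;> ring
    have hpg : ∀ v, (p : En F) (pure v g) = -pure v g := fun v => by
      rw [t_apply, rot_perp S.A (by simp [fr.eg, fr.fg]), map_neg]
    set z₂ := p * z' * p with hz₂
    have hz₂f : Fix f (z₂ : En F) := fun v => by
      have h1 : (p : En F) (pure (r⁻¹ • v) e) = pure v f := by
        rw [← hpf, ← Module.End.mul_apply, ← Units.val_mul, hp, t_sq, Units.val_one, Module.End.one_apply]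
      rw [hz₂, Units.val_mul, Units.val_mul, Module.End.mul_apply, Module.End.mul_apply, hpf, hz'.2.1 _, h1]
    have hz₂g : ∀ v, (z₂ : En F) (pure v g) = pure ((β' : Matrix (Fin 4) (Fin 4) F) *ᵥ v) g := fun v => by
      rw [hz₂, Units.val_mul, Units.val_mul, Module.End.mul_apply, Module.End.mul_apply, hpg, map_neg, hzg',
        map_neg, hpg, neg_neg]
    have hpe : ∀ v, (p : En F) (pure v e) = pure (r • v) f := fun v => by
      have h1 := hpf (r • v)
      rw [inv_smul_smul₀ hr0] at h1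
      rw [← h1, ← Module.End.mul_apply, ← Units.val_mul, hp, t_sq, Units.val_one, Module.End.one_apply]
    have hz₂e : ∀ v, ∃ w, (z₂ : En F) (pure v e) = pure w e := fun v => by
      rw [hz₂, Units.val_mul, Units.val_mul, Module.End.mul_apply, Module.End.mul_apply, hpe, hfblock z' hz', hpf]
      exact ⟨_, rfl⟩
    have hz₂X : z₂ ∈ X := X.mul_mem (X.mul_mem (hX.turn _ hu) hz'.1) (hX.turn _ hu)
    set c := z * z₂ * z⁻¹ * z₂⁻¹ with hcdef
    have hce : Fix e (c : En F) := fun v => by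
      obtain ⟨w, hw⟩ : ∃ w, ((z₂⁻¹ : Un F) : En F) (pure v e) = pure w e := by
        let L : (Fin 4 → F) →ₗ[F] (Fin 4 → F) := (S.A.B e e)⁻¹ • (bl S.A e ∘ₗ (z₂ : En F) ∘ₗ pureL e)
        have hL : ∀ w, (z₂ : En F) (pure w e) = pure (L w) e := fun w => by
          obtain ⟨w', hw'⟩ := hz₂e w
          simp [L, pureL_apply, hw', bl_pure, smul_smul, fr.e0]
        obtain ⟨w, hw⟩ := LinearMap.surjective_of_injective (f := L)
          (fun a b hab => pureL_inj fr.e0 (units_injective z₂ (by rw [hL, hL, hab]))) v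
        exact ⟨w, by rw [← hw, ← hL, inv_apply_apply]⟩
      have h2 : (z₂ : En F) (pure w e) = pure v e := by rw [← hw, apply_inv_apply]
      have hzi : ((z⁻¹ : Un F) : En F) (pure w e) = pure w e := (inv_mem (show z ∈ fixSub e from hz.2.1) :) w
      simp only [hcdef, Units.val_mul, Module.End.mul_apply, hw, hzi, h2, hz.2.1 v]
    have hcf : Fix f (c : En F) := fun v => by
      have h0 : ((z₂⁻¹ : Un F) : En F) (pure v f) = pure v f := (inv_mem (show z₂ ∈ fixSub f from hz₂f) :) v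
      have hzi := hfblock z⁻¹ (inv_mem hz) v
      have h2 : (z : En F) (pure (comp S.A ((z⁻¹ : Un F) : En F) f f *ᵥ v) f) = pure v f := by
        rw [← hzi, apply_inv_apply]
      simp only [hcdef, Units.val_mul, Module.End.mul_apply, h0, hzi, hz₂f _, h2]
    have hcg : ∀ v, (c : En F) (pure v g) =
        pure (((β * β' * β⁻¹ * β'⁻¹ : GL (Fin 4) F) : Matrix (Fin 4) (Fin 4) F) *ᵥ v) g := by
      have hinv : ∀ (x : Un F) (γ : GL (Fin 4) F),
          (∀ v, (x : En F) (pure v g) = pure ((γ : Matrix (Fin 4) (Fin 4) F) *ᵥ v) g) → ∀ v,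
          ((x⁻¹ : Un F) : En F) (pure v g) = pure (((γ⁻¹ : GL (Fin 4) F) : Matrix (Fin 4) (Fin 4) F) *ᵥ v) g := by
        intro x γ hx v
        refine units_injective x ?_
        rw [apply_inv_apply, hx, Matrix.mulVec_mulVec, ← Units.val_mul, mul_inv_cancel, Units.val_one,
          Matrix.one_mulVec]
      intro v
      simp only [hcdef, Units.val_mul, Module.End.mul_apply, hinv z₂ β' hz₂g, hinv z β hzg, hz₂g, hzg,
        Matrix.mulVec_mulVec, mul_assoc]
    have hcX : c ∈ X := X.mul_mem (X.mul_mem (X.mul_mem hz.1 hz₂X) (X.inv_mem hz.1)) (X.inv_mem hz₂X)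
    refine absurd ⟨g, e, f, fr₂, sieGrp_le_of_normalised hX.sD hX.np hX.five _
      (fun Q hQ => hX.img_iso fr₂ inf_le_left hQ) (hnorm g _ ?_) ⟨_, ⟨c, ⟨hcX, hce, hcf⟩, hcg⟩, hne⟩⟩ hns
    intro γ hγ x hx
    refine ⟨X.mul_mem (X.mul_mem (hX.small γ hγ) hx.1) (X.inv_mem (hX.small γ hγ)), fun v => ?_, fun v => ?_⟩
    · rw [← map_inv, Units.val_mul, Units.val_mul, Module.End.mul_apply, Module.End.mul_apply, rtU_apply, hx.2.1 _,
        rtU_apply, Matrix.mulVec_mulVec, ← Units.val_mul, mul_inv_cancel, Units.val_one, Matrix.one_mulVec]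
    · rw [← map_inv, Units.val_mul, Units.val_mul, Module.End.mul_apply, Module.End.mul_apply, rtU_apply, hx.2.2 _,
        rtU_apply, Matrix.mulVec_mulVec, ← Units.val_mul, mul_inv_cancel, Units.val_one, Matrix.one_mulVec]
  push Not at hbig
  have hsign : ∀ z ∈ C, z ∈ signSub g := fun z hz => by
    obtain ⟨Q, hQ, hQz⟩ := hgQ z hz
    obtain ⟨t, ht⟩ := hbig Q hQ
    obtain ⟨v₀, -, hv₀⟩ := S.D.ndOn_top.aniso S.D hX.sD (U := ⊤) (Bil.ne_bot_of_pos (by
      rw [Bil.finrank_top_eq]; norm_num))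
    have h1 := hX.img_iso fr₂ inf_le_left hQ v₀ v₀
    rw [ht] at h1
    simp only [Matrix.smul_mulVec, Matrix.one_mulVec, map_smul, LinearMap.smul_apply, smul_eq_mul] at h1
    have h2 : t * t = 1 := mul_right_cancel₀ hv₀ (by linear_combination h1)
    rcases mul_self_eq_one_iff.1 h2 with h3 | h3
    · exact Or.inl fun v => by rw [hgblock z hz, ← hQz, ht, h3, one_smul, Matrix.one_mulVec]
    · exact Or.inr fun v => by
        rw [hgblock z hz, ← hQz, ht, h3, Matrix.smul_mulVec, Matrix.one_mulVec, neg_one_smul, pure_neg_left]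
  have hyC := hmemC hy hf hc
  by_cases hsc : ∃ t : F, comp S.A (y : En F) f f = t • 1
  swap
  · push Not at hsc
    obtain ⟨Q, hQ⟩ : IsUnit (comp S.A (y : En F) f f) := Matrix.mulVec_injective_iff_isUnit.1 fun v v' hv =>
      pureL_inj fr.f0 <| units_injective y <| by rw [hfblock y hyC, hfblock y hyC]; exact congrArg (pure · f) hv
    have hall := sieGrp_le_of_normalised hX.sD hX.np hX.five (img f C)
      (fun R hR => hX.img_iso fr₁ inf_le_left hR) (hnorm f C hCn)
      ⟨Q, ⟨y, hyC, fun v => by rw [hQ, hfblock y hyC]⟩, fun t => by rw [hQ]; exact hsc t⟩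
    refine absurd ⟨f, g, e, fr₁, (Subgroup.closure_le _).2 ?_⟩ hns
    rintro _ ⟨x, z, hx, hz, rfl⟩
    obtain ⟨β, hβ, hsq⟩ := hX.sie_sq hx hz
    obtain ⟨w, hw, hwf⟩ := hall hβ
    refine ⟨w * w, ⟨X.mul_mem hw.1 hw.1, ?_, mul_mem (show w ∈ fixSub e from hw.2.1) hw.2.1⟩, fun v => ?_⟩
    · intro v
      rcases hsign w hw with h | h
      · rw [Units.val_mul, Module.End.mul_apply, h, h]
      · rw [Units.val_mul, Module.End.mul_apply, h, map_neg, h, neg_neg]
    · rw [Units.val_mul, Module.End.mul_apply, hwf, hwf, ← hsq, Units.val_mul, Matrix.mulVec_mulVec]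
  obtain ⟨t, ht⟩ := hsc
  obtain ⟨s, hs'⟩ : ∃ s : F, ∀ v, (y : En F) (pure v g) = pure (s • v) g := by
    rcases hsign y hyC with h | h
    · exact ⟨1, fun v => by rw [h, one_smul]⟩
    · exact ⟨-1, fun v => by rw [h, neg_one_smul, pure_neg_left]⟩
  refine isTens_of (by norm_num) (by norm_num) (P := (S.A.B e e)⁻¹ • S.A.tau e e + (t / S.A.B f f) • S.A.tau f f +
    (s / S.A.B g g) • S.A.tau g g) (Q := 1) ?_
  rw [rt_one, mul_one]
  refine fr.ext_op hs (fun v => ?_) (fun v => ?_) fun v => ?_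
  all_goals rw [lt_pure, Matrix.add_mulVec, Matrix.add_mulVec, Matrix.smul_mulVec, Matrix.smul_mulVec,
    Matrix.smul_mulVec, Bil.tau_mulVec, Bil.tau_mulVec, Bil.tau_mulVec]
  · simp [hf v, fr.e0, fr.fe hs, fr.ge hs]
  · simp [hfblock y hyC, ht, fr.f0, fr.ef, fr.gf hs, pure_smul, Matrix.smul_mulVec, smul_smul]
  · simp [hs', fr.g0, fr.eg, fr.fg, pure_smul, smul_smul]

theorem Amb.tens_of_frame_aux (hns : ¬ Single S X) {e f g : Fin 3 → F} (fr : Frame S.A e f g)
    (hσ : Orthogonal.sqSign (S.A.B e e) = Orthogonal.sqSign (S.A.B f f)) {h : Un F} (hh : h ∈ X)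
    (he : Commute h (ltU (rotGL S.A fr.e0))) (hf : Commute h (ltU (rotGL S.A fr.f0))) : IsTens h := by
  refine hX.tens_of_twist fr.e0 hh he fun β hβ β' hβ' hfix => hX.tens_of_frame_fix hns fr hσ
    (X.mul_mem (X.mul_mem (X.mul_mem hh (hX.small β hβ)) (X.inv_mem hh)) (X.inv_mem (hX.small β' hβ'))) hfix ?_
  exact ((hf.mul_left (ltU_rtU_commute _ _).symm).mul_left hf.inv_left).mul_left
    (ltU_rtU_commute _ _).symm.inv_left

/-- An element respecting an orthogonal frame is a tensor. -/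
theorem Amb.tens_of_frame (hns : ¬ Single S X) {e f g : Fin 3 → F} (fr : Frame S.A e f g) {h : Un F}
    (hh : h ∈ X) (he : Commute h (ltU (rotGL S.A fr.e0))) (hf : Commute h (ltU (rotGL S.A fr.f0))) :
    IsTens h := by
  have hs := hX.sA
  have hg : Commute h (ltU (rotGL S.A fr.g0)) := by
    rw [show ltU (rotGL S.A fr.g0) = (ltU (rotGL S.A fr.e0) : Un F) * ltU (rotGL S.A fr.f0) by
      rw [← map_mul]
      refine congrArg ltU (Units.ext (fr.ext_vec hs ?_ ?_ ?_))
      all_goals rw [Units.val_mul, ← Matrix.mulVec_mulVec]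
      all_goals simp only [rotGL_val, rot_self S.A fr.e0, rot_self S.A fr.f0, rot_self S.A fr.g0,
        rot_perp S.A fr.ef, rot_perp S.A fr.eg, rot_perp S.A (fr.fe hs), rot_perp S.A fr.fg,
        rot_perp S.A (fr.ge hs), rot_perp S.A (fr.gf hs), Matrix.mulVec_neg, neg_neg]]
    exact he.mul_right hf
  rcases Int.units_eq_one_or (Orthogonal.sqSign (S.A.B e e)) with h1 | h1 <;>
    rcases Int.units_eq_one_or (Orthogonal.sqSign (S.A.B f f)) with h2 | h2 <;>
    rcases Int.units_eq_one_or (Orthogonal.sqSign (S.A.B g g)) with h3 | h3 <;>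
    first
      | exact hX.tens_of_frame_aux hns fr (h1.trans h2.symm) hh he hf
      | exact hX.tens_of_frame_aux hns (fr.swap₂₃ hs) (h1.trans h3.symm) hh he hg
      | exact hX.tens_of_frame_aux hns (fr.rotate hs) (h2.trans h3.symm) hh hf hg

end Cfsg.Agent.H69.OmegaTwelve.Tens
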