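import Mathlib

/-!
Two involutions in a finite group: either conjugate inside their dihedral group or with a central involution.
-/

set_option autoImplicit false

namespace Cfsg.Agent.H69.OmegaTwelve.Tens

variable {G : Type*} [Group G]

/-- An involution inverts the powers of its product with another one. -/
theorem invol_conj_zpowers {s r c : G} (hs : s * s = 1) (hr : r * r = 1) (hc : c ∈ Subgroup.zpowers (r * s)) :
    s * c * s = c⁻¹ := by
  obtain ⟨n, rfl⟩ := hc
  have hs' : s⁻¹ = s := inv_eq_of_mul_eq_one_right hs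
  have hr' : r⁻¹ = r := inv_eq_of_mul_eq_one_right hr
  have h1 : s * (r * s) * s⁻¹ = (r * s)⁻¹ := by
    rw [_root_.mul_inv_rev, hs', hr']
    simp [mul_assoc, hs]
  have h2 := congrArg (· ^ n) h1
  simp only [conj_zpow, inv_zpow] at h2
  rw [hs'] at h2
  exact h2

/-- The three possibilities for two involutions. -/
theorem invol_cases [Finite G] {s r : G} (hs : s * s = 1) (hr : r * r = 1) :
    (∃ c ∈ Subgroup.zpowers (r * s), c * s * c⁻¹ = r) ∨
    ∃ z ∈ Subgroup.zpowers (r * s), z ≠ 1 ∧ z * z = 1 ∧ Commute z s ∧ Commute z r ∧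
      ((∃ c ∈ Subgroup.zpowers (r * s), c * (z * s) * c⁻¹ = r) ∨
        ∃ j ∈ Subgroup.zpowers (r * s), j * j = z) := by
  set w := r * s with hw
  have hrw : r = w * s := by rw [hw, mul_assoc, hs, mul_one]
  have hconj : ∀ n : ℕ, w ^ n * s * (w ^ n)⁻¹ = w ^ (2 * n) * s := fun n => by
    have h := invol_conj_zpowers hs hr (pow_mem (Subgroup.mem_zpowers w) n)
    rw [two_mul, pow_add, ← h, mul_assoc, mul_assoc (w ^ n)]
    congr 1
    rw [← mul_assoc, ← mul_assoc, hs, one_mul]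
  have hpos : 0 < orderOf w := orderOf_pos w
  rcases Nat.even_or_odd (orderOf w) with ⟨k, hk⟩ | ⟨k, hk⟩
  swap
  · refine Or.inl ⟨w ^ (k + 1), pow_mem (Subgroup.mem_zpowers w) _, ?_⟩
    rw [hconj, show 2 * (k + 1) = orderOf w + 1 by omega, pow_add, pow_orderOf_eq_one, one_mul, pow_one, ← hrw]
  right
  set z := w ^ k with hz
  have hzz : z * z = 1 := by rw [hz, ← pow_add, ← hk, pow_orderOf_eq_one]
  have hz1 : z ≠ 1 := fun h => by
    have := orderOf_dvd_of_pow_eq_one (hz ▸ h)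
    have := Nat.le_of_dvd (by omega) this
    omega
  have hzi : z⁻¹ = z := inv_eq_of_mul_eq_one_right hzz
  have hzs : Commute z s := by
    have h := invol_conj_zpowers hs hr (pow_mem (Subgroup.mem_zpowers w) k)
    rw [← hz, hzi] at h
    show z * s = s * z
    conv_rhs => rw [← h]
    rw [← mul_assoc, ← mul_assoc, hs, one_mul]
  refine ⟨z, pow_mem (Subgroup.mem_zpowers w) _, hz1, hzz, hzs, ?_, ?_⟩
  · rw [hrw]
    exact ((Commute.refl w).pow_left k).mul_right hzs
  rcases Nat.even_or_odd k with ⟨i, hi⟩ | ⟨i, hi⟩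
  · exact Or.inr ⟨w ^ i, pow_mem (Subgroup.mem_zpowers w) _, by rw [hz, hi, pow_add]⟩
  · refine Or.inl ⟨w ^ (i + 1), pow_mem (Subgroup.mem_zpowers w) _, ?_⟩
    rw [← mul_assoc (w ^ (i + 1)), hz, ((Commute.refl w).pow_pow (i + 1) k).eq, mul_assoc, mul_assoc,
      ← mul_assoc (w ^ (i + 1)), hconj, ← mul_assoc, ← pow_add,
      show k + 2 * (i + 1) = orderOf w + 1 by omega, pow_add, pow_orderOf_eq_one, one_mul, pow_one, ← hrw]

/-- An automorphism of order two inverting a central subgroup and without further fixed cosets inverts everything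
up to that subgroup exactly. -/
theorem inverts_of_no_fixed_coset {H : Type*} [Group H] [Finite H] (N : Subgroup H) (θ : H →* H)
    (hθ : ∀ h, θ (θ h) = h) (hinv : ∀ n ∈ N, θ n = n⁻¹) (hcen : ∀ n ∈ N, ∀ h : H, Commute n h)
    (hfix : ∀ h, h⁻¹ * θ h ∈ N → h ∈ N) (h : H) : θ h = h⁻¹ := by
  classical
  let φ : H ⧸ N → H ⧸ N := Quotient.lift (fun h => (QuotientGroup.mk (h⁻¹ * θ h) : H ⧸ N)) fun x y hxy => by
    obtain ⟨n, hn, rfl⟩ : ∃ n ∈ N, y = x * n := ⟨x⁻¹ * y, QuotientGroup.leftRel_apply.1 hxy, by group⟩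
    refine QuotientGroup.eq.2 ?_
    rw [map_mul, hinv n hn]
    have h1 : (x * n)⁻¹ * (θ x * n⁻¹) = x⁻¹ * θ x * (n⁻¹ * n⁻¹) := by
      rw [_root_.mul_inv_rev, ((hcen n hn x).inv_left.inv_right).eq, mul_assoc, mul_assoc,
        ← mul_assoc n⁻¹, ((hcen n hn (θ x)).inv_left).eq, mul_assoc]
    rw [h1, ← mul_assoc (x⁻¹ * θ x)⁻¹, inv_mul_cancel, one_mul]
    exact mul_mem (inv_mem hn) (inv_mem hn)
  have hinj : Function.Injective φ := fun a b => by
    induction a using QuotientGroup.induction_on with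
    | _ x =>
    induction b using QuotientGroup.induction_on with
    | _ y =>
    intro hxy
    have h1 : (x⁻¹ * θ x)⁻¹ * (y⁻¹ * θ y) ∈ N := QuotientGroup.eq.1 hxy
    refine QuotientGroup.eq.2 ?_
    set k := y * x⁻¹ with hk
    have h2 : k⁻¹ * θ k = θ x * ((x⁻¹ * θ x)⁻¹ * (y⁻¹ * θ y)) * (θ x)⁻¹ := by
      rw [hk, map_mul, map_inv]; group
    have h3 : k⁻¹ * θ k ∈ N := by
      rw [h2, ← (hcen _ h1 (θ x)).eq, mul_inv_cancel_right]
      exact h1
    have hkN := hfix k h3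
    have h4 : x⁻¹ * y = x⁻¹ * (k * x) := by rw [hk]; group
    rw [h4, (hcen k hkN x).eq, inv_mul_cancel_left]
    exact hkN
  obtain ⟨b, hb⟩ := (Finite.injective_iff_surjective.1 hinj) (QuotientGroup.mk h)
  induction b using QuotientGroup.induction_on with
  | _ z =>
  obtain ⟨n, hn, rfl⟩ : ∃ n ∈ N, h = z⁻¹ * θ z * n :=
    ⟨_, QuotientGroup.eq.1 hb, (mul_inv_cancel_left (z⁻¹ * θ z) h).symm⟩
  rw [map_mul, map_mul, map_inv, hθ, hinv n hn, _root_.mul_inv_rev, _root_.mul_inv_rev, inv_inv,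
    ((hcen n hn ((θ z)⁻¹ * z)).inv_left).eq]

end Cfsg.Agent.H69.OmegaTwelve.Tens
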