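import Cfsg.Agent.H24.Tensor.Span
import Cfsg.Agent.H69.OmegaTwelve.Tens.Diag
import Cfsg.Agent.H69.OmegaTwelve.Tens.Invol

/-!
The centraliser of a half turn consists of tensors.
-/

set_option autoImplicit false
set_option linter.style.haveILetI false

namespace Cfsg.Agent.H69.OmegaTwelve.Tens

open Module Matrix Cfsg.Agent.H24.Tensor Cfsg.Agent.H98.TensorGL

variable {F : Type*} [Field F]

/-- The generator of rotations of the plane of `f` and `g`. -/
noncomputable def gen (A : Bil F 3) (f g : Fin 3 → F) : Matrix (Fin 3) (Fin 3) F :=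
  (A.B f f)⁻¹ • (A.tau g f - A.tau f g)

instance finite_units_end [Finite F] : Finite (Un F) :=
  have : Finite (En F) := Module.finite_of_finite F
  Finite.of_injective _ Units.val_injective

variable {A : Bil F 3}

theorem Frame.gen_apply (hs : A.s = 1) {e f g : Fin 3 → F} (fr : Frame A e f g) :
    gen A f g *ᵥ e = 0 ∧ gen A f g *ᵥ f = g ∧ gen A f g *ᵥ g = -(A.B g g / A.B f f) • f := by
  refine ⟨?_, ?_, ?_⟩
  · simp [gen, Matrix.smul_mulVec, Matrix.sub_mulVec, Bil.tau_mulVec, fr.fe hs, fr.ge hs]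
  · simp [gen, Matrix.smul_mulVec, Matrix.sub_mulVec, Bil.tau_mulVec, fr.gf hs, smul_smul, fr.f0]
  · simp [gen, Matrix.smul_mulVec, Matrix.sub_mulVec, Bil.tau_mulVec, fr.fg, smul_smul, div_eq_inv_mul]

variable {S : Sys F 3 4} {X : Subgroup (Un F)} (hX : Amb S X)
include hX

/-- A commutative group of inverted elements with the shape of a complex structure consists of tensors. -/
theorem Amb.tens_of_inverted [Finite F] {e f g : Fin 3 → F} (fr : Frame S.A e f g) (Y : Subgroup (Un F))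
    (hY : ∀ y ∈ Y, y ∈ X ∧ Fix e (y : En F))
    (hn : ∀ β ∈ S.D.sieGrp, ∀ y ∈ Y, rtU β * y * (rtU β)⁻¹ ∈ Y)
    (hinv : ∀ y ∈ Y, ltU (rotGL S.A fr.f0) * y * ltU (rotGL S.A fr.f0) = y⁻¹)
    (hgen : ∀ y ∈ Y, (y : En F) * lt (gen S.A f g) = lt (gen S.A f g) * (y : En F)) {y : Un F} (hy : y ∈ Y) :
    IsTens y := by
  have hs := hX.sA
  obtain ⟨hge, hgf, hgg⟩ := fr.gen_apply hs
  set μ := S.A.B g g / S.A.B f f with hμ
  have hμ0 : μ ≠ 0 := div_ne_zero fr.g0 fr.f0
  set σ : Un F := ltU (rotGL S.A fr.f0) with hσ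
  set Af : Un F → Matrix (Fin 4) (Fin 4) F := fun y => comp S.A (y : En F) f f
  set Cf : Un F → Matrix (Fin 4) (Fin 4) F := fun y => comp S.A (y : En F) g f
  have hcomm : ∀ {z}, z ∈ Y → ∀ m, (z : En F) (lt (gen S.A f g) m) = lt (gen S.A f g) ((z : En F) m) :=
    fun {z} hz m => LinearMap.congr_fun (hgen z hz) m
  have shapef : ∀ z ∈ Y, ∀ v, (z : En F) (pure v f) = pure (Af z *ᵥ v) f + pure (Cf z *ᵥ v) g := by
    intro z hz v
    have h1 : (z : En F) (lt (gen S.A f g) (lt (gen S.A f g) (pure v f))) =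
        lt (gen S.A f g) (lt (gen S.A f g) ((z : En F) (pure v f))) := by rw [hcomm hz, hcomm hz]
    rw [lt_pure, lt_pure, hgf, hgg, fr.apply hs (z : En F) v f] at h1
    simp only [map_add, map_smul, lt_pure, hge, hgf, hgg, Matrix.mulVec_zero, Matrix.mulVec_smul, map_zero,
      zero_add] at h1
    rw [fr.apply hs (z : En F) v f] at h1
    have h2 : (μ : F) • pure (comp S.A (z : En F) e f *ᵥ v) e = (0 : T F 3 4) := by
      linear_combination (norm := module) -h1
    rw [fr.apply hs (z : En F) v f, (smul_eq_zero.1 h2).resolve_left hμ0, zero_add]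
  have shapeg : ∀ z ∈ Y, ∀ v, (z : En F) (pure v g) = pure (Af z *ᵥ v) g - μ • pure (Cf z *ᵥ v) f := by
    intro z hz v
    have h1 := hcomm hz (pure v f)
    rw [lt_pure, hgf, shapef z hz, map_add, lt_pure, lt_pure, hgf, hgg, map_smul] at h1
    rw [h1]; module
  have hval : ∀ z ∈ Y, ∀ v, ((σ * z * σ : Un F) : En F) (pure v f) = pure (Af z *ᵥ v) f - pure (Cf z *ᵥ v) g ∧
      ((σ * z * σ : Un F) : En F) (pure v g) = pure (Af z *ᵥ v) g + μ • pure (Cf z *ᵥ v) f := fun z hz v => by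
    constructor
    · rw [Units.val_mul, Units.val_mul, Module.End.mul_apply, Module.End.mul_apply, t_apply, rot_self S.A fr.f0,
        shapef z hz, map_add, t_apply, t_apply, rot_self S.A fr.f0, rot_perp S.A fr.fg, map_neg, ← sub_eq_add_neg]
    · rw [Units.val_mul, Units.val_mul, Module.End.mul_apply, Module.End.mul_apply, t_apply, rot_perp S.A fr.fg]
      simp only [map_neg, shapeg z hz, map_sub, map_smul, hσ, t_apply, rot_self S.A fr.f0, rot_perp S.A fr.fg]
      module
  have hadj : ∀ z ∈ Y, S.D.adj (Af z) = Af z ∧ S.D.adj (Cf z) = Cf z := by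
    intro z hz
    have hh : (z : En F) * ((σ * z * σ : Un F) : En F) = 1 := by
      rw [hinv z hz, ← Units.val_mul, mul_inv_cancel, Units.val_one]
    refine ⟨S.D.adj_eq fun v w => ?_, S.D.adj_eq fun v w => ?_⟩
    · have h1 := fr.comp_adj hs rfl (hX.iso z (hY z hz).1) hh (x := f) (y := f) (.inr (.inl rfl)) (.inr (.inl rfl)) v w
      have h2 : comp S.A ((σ * z * σ : Un F) : En F) f f *ᵥ w = Af z *ᵥ w := by
        rw [comp_mulVec, (hval z hz w).1, map_sub, bl_pure, bl_pure, fr.fg, zero_smul, sub_zero,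
          inv_smul_smul₀ fr.f0]
      rw [h2] at h1
      exact mul_left_cancel₀ fr.f0 h1
    · have h1 := fr.comp_adj hs rfl (hX.iso z (hY z hz).1) hh (x := g) (y := f) (.inr (.inr rfl)) (.inr (.inl rfl)) v w
      have h2 : comp S.A ((σ * z * σ : Un F) : En F) f g *ᵥ w = μ • (Cf z *ᵥ w) := by
        rw [comp_mulVec, (hval z hz w).2, map_add, map_smul, bl_pure, bl_pure, fr.fg, zero_smul, zero_add,
          smul_comm, inv_smul_smul₀ fr.f0]
      rw [h2, map_smul, smul_eq_mul, ← mul_assoc, hμ, mul_div_cancel₀ _ fr.f0] at h1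
      exact mul_left_cancel₀ fr.g0 h1
  have hab : ∀ z ∈ Y, ∀ z' ∈ Y, Commute z z' := fun z hz z' hz' => by
    have h1 := hinv _ (Y.mul_mem hz hz')
    rw [show σ * (z * z') * σ = (σ * z * σ) * (σ * z' * σ) by
      simp only [mul_assoc]; rw [← mul_assoc σ σ, hσ, t_sq, one_mul], hinv z hz, hinv z' hz',
      _root_.mul_inv_rev] at h1
    exact Commute.inv_inv_iff.1 h1
  have hprod : ∀ z ∈ Y, ∀ z' ∈ Y, ∀ v, ((z * z' : Un F) : En F) (pure v f) =
      pure ((Af z * Af z' - μ • (Cf z * Cf z')) *ᵥ v) f + pure ((Cf z * Af z' + Af z * Cf z') *ᵥ v) g := by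
    intro z hz z' hz' v
    rw [Units.val_mul, Module.End.mul_apply, shapef z' hz', map_add, shapef z hz, shapeg z hz]
    simp only [Matrix.sub_mulVec, Matrix.add_mulVec, Matrix.smul_mulVec, ← Matrix.mulVec_mulVec, pure_add, pure_sub,
      pure_smul]
    abel
  have hinvA : ∀ z ∈ Y, Af z⁻¹ = Af z ∧ Cf z⁻¹ = -Cf z := fun z hz => by
    constructor <;> refine Matrix.ext_iff_mulVec.2 fun v => ?_
    · rw [comp_mulVec, ← hinv z hz, (hval z hz v).1, map_sub, bl_pure, bl_pure, fr.fg, zero_smul, sub_zero,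
        inv_smul_smul₀ fr.f0]
    · rw [comp_mulVec, ← hinv z hz, (hval z hz v).1, map_sub, bl_pure, bl_pure, fr.gf hs, zero_smul, zero_sub,
        smul_neg, inv_smul_smul₀ fr.g0, Matrix.neg_mulVec]
  have heqs : ∀ z ∈ Y, ∀ z' ∈ Y, Af z * Af z' - μ • (Cf z * Cf z') = Af z' * Af z - μ • (Cf z' * Cf z) ∧
      Cf z * Af z' + Af z * Cf z' = Cf z' * Af z + Af z' * Cf z := fun z hz z' hz' => by
    constructor <;> refine Matrix.ext_iff_mulVec.2 fun v => ?_
    · have h1 := congrArg (fun u : Un F => bl S.A f ((u : En F) (pure v f))) (hab z hz z' hz').eq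
      simp only [hprod z hz z' hz', hprod z' hz' z hz, map_add, bl_pure, fr.fg, zero_smul, add_zero] at h1
      exact smul_right_injective _ fr.f0 h1
    · have h1 := congrArg (fun u : Un F => bl S.A g ((u : En F) (pure v f))) (hab z hz z' hz').eq
      simp only [hprod z hz z' hz', hprod z' hz' z hz, map_add, bl_pure, fr.gf hs, zero_smul, zero_add] at h1
      exact smul_right_injective _ fr.g0 h1
  have htwo := S.D.two
  have h4 : ∀ z ∈ Y, ∀ z' ∈ Y, Af z * Af z' = Af z' * Af z ∧ Cf z * Cf z' = Cf z' * Cf z ∧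
      Cf z * Af z' = Af z' * Cf z ∧ Af z * Cf z' = Cf z' * Af z := by
    intro z hz z' hz'
    obtain ⟨e1, e2⟩ := heqs z hz z' hz'
    obtain ⟨e3, e4⟩ := heqs z hz z'⁻¹ (Y.inv_mem hz')
    rw [(hinvA z' hz').1, (hinvA z' hz').2] at e3 e4
    simp only [mul_neg, neg_mul, smul_neg, sub_neg_eq_add] at e3 e4
    refine ⟨smul_right_injective _ htwo ?_, smul_right_injective _ (mul_ne_zero hμ0 htwo) ?_,
      smul_right_injective _ htwo ?_, smul_right_injective _ htwo ?_⟩
    · linear_combination (norm := module) e1 + e3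
    · linear_combination (norm := module) e3 - e1
    · linear_combination (norm := module) e2 + e4
    · linear_combination (norm := module) e2 - e4
  set W := Submodule.span F (Af '' (Y : Set (Un F)) ∪ Cf '' (Y : Set (Un F)))
  have hgenW : ∀ M ∈ Af '' (Y : Set (Un F)) ∪ Cf '' (Y : Set (Un F)),
      ∀ M' ∈ Af '' (Y : Set (Un F)) ∪ Cf '' (Y : Set (Un F)), M * M' = M' * M := by
    rintro M (⟨z, hz, rfl⟩ | ⟨z, hz, rfl⟩) M' (⟨z', hz', rfl⟩ | ⟨z', hz', rfl⟩)
    · exact (h4 z hz z' hz').1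
    · exact (h4 z hz z' hz').2.2.2
    · exact (h4 z hz z' hz').2.2.1
    · exact (h4 z hz z' hz').2.1
  have hWc : ∀ M ∈ W, ∀ M' ∈ W, M * M' = M' * M := by
    intro M hM
    induction hM using Submodule.span_induction with
    | mem M hM =>
      intro M' hM'
      induction hM' using Submodule.span_induction with
      | mem M' hM' => exact hgenW M hM M' hM'
      | zero => simp
      | add a b _ _ ha hb => rw [mul_add, add_mul, ha, hb]
      | smul c a _ ha => rw [mul_smul_comm, smul_mul_assoc, ha]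
    | zero => simp
    | add a b _ _ ha hb => intro M' hM'; rw [mul_add, add_mul, ha M' hM', hb M' hM']
    | smul c a _ ha => intro M' hM'; rw [mul_smul_comm, smul_mul_assoc, ha M' hM']
  have hWinv : S.D.Inv W := by
    intro x z hx hz M hM
    induction hM using Submodule.span_induction with
    | mem M hM =>
      have hβ := S.D.sie_mem hx hz
      refine Submodule.subset_span ?_
      rcases hM with ⟨y', hy', rfl⟩ | ⟨y', hy', rfl⟩
      · refine Or.inl ⟨_, hn _ hβ y' hy', Matrix.ext_iff_mulVec.2 fun v => ?_⟩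
        rw [comp_mulVec, ← map_inv rtU, Units.val_mul, Units.val_mul, Module.End.mul_apply, Module.End.mul_apply,
          rtU_apply, shapef y' hy', map_add, rtU_apply, rtU_apply, map_add, bl_pure, bl_pure, fr.fg, zero_smul,
          add_zero, inv_smul_smul₀ fr.f0, S.D.sie_inv, Bil.sie_val, Bil.sie_val, Matrix.mulVec_mulVec,
          Matrix.mulVec_mulVec, mul_assoc]
      · refine Or.inr ⟨_, hn _ hβ y' hy', Matrix.ext_iff_mulVec.2 fun v => ?_⟩
        rw [comp_mulVec, ← map_inv rtU, Units.val_mul, Units.val_mul, Module.End.mul_apply, Module.End.mul_apply,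
          rtU_apply, shapef y' hy', map_add, rtU_apply, rtU_apply, map_add, bl_pure, bl_pure, fr.gf hs, zero_smul,
          zero_add, inv_smul_smul₀ fr.g0, S.D.sie_inv, Bil.sie_val, Bil.sie_val, Matrix.mulVec_mulVec,
          Matrix.mulVec_mulVec, mul_assoc]
    | zero => simp
    | add a b _ _ ha hb => rw [mul_add, add_mul]; exact W.add_mem ha hb
    | smul c a _ ha => rw [mul_smul_comm, smul_mul_assoc]; exact W.smul_mem c ha
  have hscal : ∀ M ∈ W, S.D.adj M = M → ∃ t : F, M = t • 1 := by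
    intro M hM hMa
    by_contra hc
    push Not at hc
    obtain ⟨x, hx0, hxx, hx⟩ := hWinv.tau_mem S.D hX.sD (by norm_num) (Or.inl le_rfl) hM hMa hc
    exact hWinv.not_comm S.D hX.sD (by norm_num) hx0 hxx hx hWc
  obtain ⟨s, hs'⟩ := hscal _ (Submodule.subset_span (Or.inl ⟨y, hy, rfl⟩)) (hadj y hy).1
  obtain ⟨r, hr⟩ := hscal _ (Submodule.subset_span (Or.inr ⟨y, hy, rfl⟩)) (hadj y hy).2
  refine isTens_of (by norm_num) (by norm_num)
    (P := (1 - s) • ((S.A.B e e)⁻¹ • S.A.tau e e) + s • 1 + r • gen S.A f g) (Q := 1) ?_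
  rw [rt_one, mul_one]
  refine fr.ext_op hs (fun v => ?_) (fun v => ?_) fun v => ?_
  all_goals rw [lt_pure, Matrix.add_mulVec, Matrix.add_mulVec, Matrix.smul_mulVec, Matrix.smul_mulVec,
    Matrix.smul_mulVec, Matrix.smul_mulVec, Bil.tau_mulVec, Matrix.one_mulVec]
  · rw [hge, (hY y hy).2, smul_zero, add_zero, smul_smul, smul_smul, ← add_smul,
      show (1 - s) * (S.A.B e e)⁻¹ * S.A.B e e + s = 1 by
        rw [mul_assoc, inv_mul_cancel₀ fr.e0, mul_one, sub_add_cancel], one_smul]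
  · rw [shapef y hy, hgf, fr.ef]
    simp [hs', hr, Matrix.smul_mulVec, pure_smul]
  · rw [shapeg y hy, hgg, fr.eg]
    simp [hs', hr, Matrix.smul_mulVec, pure_smul, sub_eq_add_neg, smul_smul, mul_comm]

variable [Finite F] (hns : ¬ Single S X)
include hns

/-- Elements swapping the two perpendicular blocks are rotations by a right angle. -/
theorem Amb.swap {e f g : Fin 3 → F} (fr : Frame S.A e f g) {y : Un F} (hy : y ∈ X) (hf : Fix e (y : En F))
    (hsw : ltU (rotGL S.A fr.f0) * y * ltU (rotGL S.A fr.f0) = ltU (rotGL S.A fr.e0) * y) :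
    ∃ (M : GL (Fin 3) F) (c : F), y = ltU M ∧ (M : Matrix (Fin 3) (Fin 3) F) *ᵥ e = e ∧
      (M : Matrix (Fin 3) (Fin 3) F) *ᵥ f = c • g ∧
      (M : Matrix (Fin 3) (Fin 3) F) *ᵥ g = (-(S.A.B g g / S.A.B f f * c)) • f ∧
      S.A.B g g / S.A.B f f * (c * c) = 1 := by
  have hs := hX.sA
  set σ : Un F := ltU (rotGL S.A fr.f0) with hσ
  set t : Un F := ltU (rotGL S.A fr.e0) with ht
  have hye : Commute y t := hX.commute_of_fix fr.e0 hy hf
  have htens : IsTens y := by
    refine hX.tens_of_twist fr.e0 hy hye fun β hβ β' hβ' hfix => ?_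
    have hmem : y * rtU β * y⁻¹ * (rtU β')⁻¹ ∈ X :=
      X.mul_mem (X.mul_mem (X.mul_mem hy (hX.small β hβ)) (X.inv_mem hy)) (X.inv_mem (hX.small β' hβ'))
    refine hX.tens_of_frame hns fr hmem (hX.commute_of_fix fr.e0 hmem hfix) ?_
    have h1 : σ * (y * rtU β * y⁻¹) * σ = y * rtU β * y⁻¹ := by
      have hσσ : σ * σ = 1 := t_sq fr.f0
      have e1 : σ * (y * rtU β * y⁻¹) * σ = (σ * y * σ) * (σ * rtU β * σ) * (σ * y * σ)⁻¹ := by
        have hσi : σ⁻¹ = σ := t_inv fr.f0
        rw [show (σ * y * σ)⁻¹ = σ * y⁻¹ * σ by rw [_root_.mul_inv_rev, _root_.mul_inv_rev, hσi, mul_assoc]]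
        simp only [mul_assoc]
        simp only [← mul_assoc σ σ, hσσ, one_mul]
      rw [e1, hsw, (ltU_rtU_commute _ β).eq, mul_assoc (rtU β), hσσ, mul_one, ← hye.eq, _root_.mul_inv_rev,
        mul_assoc y t, (ltU_rtU_commute _ β).eq, ← mul_assoc y, mul_assoc (y * rtU β), ← mul_assoc t, mul_inv_cancel,
        one_mul]
    have h2 : Commute σ (y * rtU β * y⁻¹) := by
      show _ = _
      conv_rhs => rw [← h1]
      rw [mul_assoc _ σ σ, hσ, t_sq, mul_one]
    exact (h2.mul_right (ltU_rtU_commute _ β').inv_right).symm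
  obtain ⟨M, x, c, hM, hMe, hMf, hMg, hx⟩ := hX.fix_tens_coord fr hy hf htens
  have h1 := congrArg (fun u : Un F => (u : En F) (pure (Pi.single 0 1) f)) hsw
  simp only [hσ, ht, hM, Units.val_mul, Module.End.mul_apply, ltU_val, lt_pure, rotGL_val, hMf, hMg,
    Matrix.mulVec_add, Matrix.mulVec_smul, rot_self S.A fr.f0, rot_perp S.A fr.fg, rot_perp S.A fr.ef,
    rot_perp S.A fr.eg] at h1
  have h2 := pure_injective (show (Pi.single 0 1 : Fin 4 → F) ≠ 0 by simp) h1
  have h3 := congrArg (S.A.B f) h2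
  simp [fr.fg, fr.f0] at h3
  have hx0 : x = 0 := (mul_eq_zero.1 (show (2 * S.A.B f f) * x = 0 by linear_combination h3)).resolve_left
    (mul_ne_zero S.A.two fr.f0)
  subst hx0
  exact ⟨M, c, hM, hMe, by rw [hMf, zero_smul, zero_add], by rw [hMg, zero_smul, add_zero],
    by linear_combination hx⟩

/-- The elements fixing a block and commuting with a half turn beside it. -/
theorem Amb.fix_comm {e f g : Fin 3 → F} (fr : Frame S.A e f g) {y : Un F} (hy : y ∈ X) (hf : Fix e (y : En F))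
    (hc : Commute y (ltU (rotGL S.A fr.f0))) : y = 1 ∨ y = ltU (rotGL S.A fr.e0) := by
  have hs := hX.sA
  have htens := hX.tens_of_frame hns fr hy (hX.commute_of_fix fr.e0 hy hf) hc
  obtain ⟨M, x, c, rfl, hMe, hMf, hMg, hx⟩ := hX.fix_tens_coord fr hy hf htens
  have h1 := congrArg (fun u : Un F => (u : En F) (pure (Pi.single 0 1) f)) hc.eq
  simp only [Units.val_mul, Module.End.mul_apply, ltU_val, lt_pure, rotGL_val, hMf,
    Matrix.mulVec_add, Matrix.mulVec_smul, rot_self S.A fr.f0, rot_perp S.A fr.fg] at h1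
  have h2 := pure_injective (show (Pi.single 0 1 : Fin 4 → F) ≠ 0 by simp) h1
  have h3 := congrArg (S.A.B g) h2
  simp [fr.gf hs, fr.g0] at h3
  have hc0 : c = 0 := (mul_eq_zero.1 (show (2 * S.A.B g g) * c = 0 by linear_combination h3)).resolve_left
    (mul_ne_zero S.A.two fr.g0)
  subst hc0
  rcases mul_self_eq_one_iff.1 (show x * x = 1 by linear_combination hx) with rfl | rfl
  · refine Or.inl (fr.ext_units hs (fun v => ?_) (fun v => ?_) fun v => ?_) <;>
      simp [ltU_val, lt_pure, hMe, hMf, hMg]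
  · refine Or.inr (congrArg ltU (Units.ext (fr.ext_vec hs ?_ ?_ ?_)))
    · rw [hMe, rotGL_val, rot_self S.A fr.e0]
    · rw [hMf, rotGL_val, rot_perp S.A fr.ef]; simp
    · rw [hMg, rotGL_val, rot_perp S.A fr.eg]; simp

/-- Non-rectangular half turns: the pointwise stabiliser of the block consists of tensors. -/
theorem Amb.fix_tens_good {e : Fin 3 → F} (he : S.A.B e e ≠ 0) (hR : ¬ Rect S.A e) {y : Un F} (hy : y ∈ X)
    (hf : Fix e (y : En F)) : IsTens y := by
  have hs := hX.sA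
  set t : Un F := ltU (rotGL S.A he) with ht
  have hinv : ∀ {f g : Fin 3 → F} (fr : Frame S.A e f g) {z : Un F}, z ∈ X → Fix e (z : En F) →
      ltU (rotGL S.A fr.f0) * z * ltU (rotGL S.A fr.f0) = z⁻¹ := by
    intro f g fr z hz hzf
    set σ : Un F := ltU (rotGL S.A fr.f0) with hσ
    have hσσ : σ * σ = 1 := t_sq fr.f0
    have hσi : σ⁻¹ = σ := t_inv fr.f0
    have hzt := hX.commute_of_fix fr.e0 hz hzf
    set r := z * σ * z⁻¹ with hr
    have hrr : r * r = 1 := by rw [hr, conj_mul, hσσ, mul_one, mul_inv_cancel]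
    have hwfix : ∀ c ∈ Subgroup.zpowers (r * σ), c ∈ X ∧ Fix e (c : En F) := by
      intro c hc
      have hw : r * σ ∈ X ⊓ fixSub e := by
        refine ⟨X.mul_mem (X.mul_mem (X.mul_mem hz (hX.turn f fr.f0)) (X.inv_mem hz)) (hX.turn f fr.f0), fun v => ?_⟩
        have hzi : ((z⁻¹ : Un F) : En F) (-pure v e) = -pure v e := by
          rw [map_neg, (inv_mem (show z ∈ fixSub e from hzf) :) v]
        rw [hr]
        simp only [Units.val_mul, Module.End.mul_apply, hσ, t_apply, rot_perp S.A (fr.fe hs), map_neg, neg_neg]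
        rw [(inv_mem (show z ∈ fixSub e from hzf) :) v, t_apply, rot_perp S.A (fr.fe hs), map_neg, map_neg, neg_neg,
          hzf]
      exact (Subgroup.zpowers_le.2 hw) hc
    have hnoswap : ∀ j ∈ X, Fix e (j : En F) → σ * j * σ = t * j → False := fun j hj hjf hjs => by
      obtain ⟨-, c, -, -, -, -, hc⟩ := hX.swap hns fr hj hjf hjs
      refine hR ((fr.rect_iff hs).2 ?_)
      have hc0 : c ≠ 0 := fun h => by simp [h] at hc
      have h1 : S.A.B f f = S.A.B g g * (c * c) := by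
        have := fr.f0; field_simp at hc; linear_combination -hc
      rw [h1, Orthogonal.sqSign_mul S.A.two fr.g0 (mul_ne_zero hc0 hc0),
        Orthogonal.sqSign_of_isSquare ⟨c, rfl⟩, mul_one]
    rcases invol_cases hσσ hrr with ⟨c, hc, hcr⟩ | ⟨w, hw, hw1, hww, hwσ, -, hcase⟩
    · obtain ⟨hcX, hcf⟩ := hwfix c hc
      have hd : Commute (c⁻¹ * z) σ := by
        show _ = _
        have h1 : c⁻¹ * z * σ = c⁻¹ * r * z := by rw [hr]; group
        rw [h1, ← hcr]; group
      have hdf : Fix e ((c⁻¹ * z : Un F) : En F) :=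
        (mul_mem (inv_mem (show c ∈ fixSub e from hcf)) (show z ∈ fixSub e from hzf) :)
      have hdd : (c⁻¹ * z)⁻¹ = c⁻¹ * z ∧ Commute (c⁻¹ * z) c := by
        rcases hX.fix_comm hns fr (X.mul_mem (X.inv_mem hcX) hz) hdf hd with h | h
        · rw [h]; exact ⟨inv_one, Commute.one_left c⟩
        · rw [h]; exact ⟨t_inv fr.e0, (hX.commute_of_fix fr.e0 hcX hcf).symm⟩
      have hz' : z = c * (c⁻¹ * z) := by group
      have hσc : σ * c * σ = c⁻¹ := invol_conj_zpowers hσσ hrr hc
      calc σ * z * σ = σ * (c * (c⁻¹ * z)) * σ := by rw [← hz']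
        _ = σ * c * σ * (c⁻¹ * z) := by rw [mul_assoc σ, mul_assoc c, hd.eq]; group
        _ = c⁻¹ * (c⁻¹ * z) := by rw [hσc]
        _ = z⁻¹ := by
            conv_rhs => rw [hz', _root_.mul_inv_rev, hdd.1, (hdd.2.inv_right).eq]
    · exfalso
      obtain ⟨hwX, hwf⟩ := hwfix w hw
      have hwt : w = t := (hX.fix_comm hns fr hwX hwf hwσ).resolve_left hw1
      subst hwt
      rcases hcase with ⟨c, hc, hcr⟩ | ⟨j, hj, hjj⟩
      · obtain ⟨hcX, hcf⟩ := hwfix c hc
        have hdf : Fix e ((z⁻¹ * c : Un F) : En F) :=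
          (mul_mem (inv_mem (show z ∈ fixSub e from hzf)) (show c ∈ fixSub e from hcf) :)
        refine hnoswap _ (X.mul_mem (X.inv_mem hz) hcX) hdf ?_
        have hct : Commute (z⁻¹ * c) t := hzt.inv_left.mul_left (hX.commute_of_fix fr.e0 hcX hcf)
        have h1 : (z⁻¹ * c) * (t * σ) * (z⁻¹ * c)⁻¹ = σ := by
          have h2 : (z⁻¹ * c) * (t * σ) * (z⁻¹ * c)⁻¹ = z⁻¹ * (c * (t * σ) * c⁻¹) * z := by group
          rw [h2, hcr, hr]; group
        rw [mul_inv_eq_iff_eq_mul] at h1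
        rw [← h1, ← mul_assoc (z⁻¹ * c), hct.eq, mul_assoc _ σ σ, hσσ, mul_one]
      · obtain ⟨hjX, hjf⟩ := hwfix j hj
        refine hnoswap j hjX hjf ?_
        rw [invol_conj_zpowers hσσ hrr hj]
        refine inv_eq_of_mul_eq_one_right ?_
        rw [← mul_assoc, (hX.commute_of_fix fr.e0 hjX hjf).eq, mul_assoc, hjj, hww]
  obtain ⟨f, g, fr⟩ := exists_frame S.A hs he
  set μ := S.A.B g g / S.A.B f f with hμ
  obtain ⟨τ, hτ, hτc⟩ := exists_param hX.five (μ := μ) (div_ne_zero fr.g0 fr.f0) (-1)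
  have ha' : S.A.B f f + τ * τ * S.A.B g g ≠ 0 := fun h => hτc (by
    rw [hμ]; have := fr.f0; field_simp; linear_combination h)
  have fr' : Frame S.A e (f + τ • g) ((-(μ * τ)) • f + g) := by
    refine ⟨fr.e0, ?_, ?_, ?_, ?_, ?_⟩
    · simpa [fr.fg, fr.gf hs, mul_assoc] using ha'
    · simp [fr.fg, fr.gf hs]
      intro h
      refine ha' (mul_left_cancel₀ (div_ne_zero fr.g0 fr.f0) ?_)
      rw [mul_zero, hμ] at *
      have := fr.f0
      field_simp at h ⊢
      linear_combination h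
    · simp [fr.ef, fr.eg]
    · simp [fr.ef, fr.eg]
    · simp [fr.fg, fr.gf hs, hμ]
      have := fr.f0
      field_simp
      ring
  refine hX.tens_of_inverted fr (X ⊓ fixSub e) (fun z hz => hz) (fun β hβ z hz => ⟨X.mul_mem (X.mul_mem
    (hX.small β hβ) hz.1) (X.inv_mem (hX.small β hβ)), fun v => ?_⟩) (fun z hz => hinv fr hz.1 hz.2)
    (fun z hz => ?_) ⟨hy, hf⟩
  · rw [← map_inv, Units.val_mul, Units.val_mul, Module.End.mul_apply, Module.End.mul_apply, rtU_apply, hz.2 _,
      rtU_apply, Matrix.mulVec_mulVec, ← Units.val_mul, mul_inv_cancel, Units.val_one, Matrix.one_mulVec]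
  set σ : Un F := ltU (rotGL S.A fr.f0) with hσ
  set σ' : Un F := ltU (rotGL S.A fr'.f0) with hσ'
  have h1 : σ' * σ * z * (σ * σ') = z := by
    rw [show σ' * σ * z * (σ * σ') = σ' * (σ * z * σ) * σ' by group, hinv fr hz.1 hz.2,
      hinv fr' (X.inv_mem hz.1) (inv_mem (show z ∈ fixSub e from hz.2)), inv_inv]
  have hc : Commute z (σ' * σ) := by
    show _ = _
    conv_lhs => rw [← h1]
    rw [mul_assoc, show σ * σ' * (σ' * σ) = 1 by
      rw [← mul_assoc, mul_assoc σ σ' σ', t_sq, mul_one, t_sq], mul_one]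
  have hc' : Commute z (σ * σ') := by
    have := hc.inv_right
    rwa [_root_.mul_inv_rev, t_inv, t_inv] at this
  have hdiff : rot S.A (f + τ • g) * rot S.A f - rot S.A f * rot S.A (f + τ • g) =
      (4 * S.A.B f f * τ / S.A.B (f + τ • g) (f + τ • g)) • gen S.A f g := by
    have h0 := fr'.f0
    refine fr.ext_vec hs ?_ ?_ ?_
    all_goals simp only [Matrix.sub_mulVec, ← Matrix.mulVec_mulVec, Matrix.smul_mulVec, (fr.gen_apply hs).1,
      (fr.gen_apply hs).2.1, (fr.gen_apply hs).2.2, rot_mulVec, map_add, map_sub, map_smul, LinearMap.add_apply,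
      LinearMap.smul_apply, smul_eq_mul, fr.ef, fr.eg, fr.fg, fr.fe hs, fr.ge hs, fr.gf hs, Matrix.mulVec_sub,
      Matrix.mulVec_smul, Matrix.mulVec_add, mul_zero, zero_div, zero_smul, zero_sub, add_zero, zero_add,
      map_neg, Matrix.mulVec_neg, smul_zero]
    all_goals
      have hf0 := fr.f0
      simp [fr.fg, fr.gf hs] at h0
      match_scalars <;> (try field_simp) <;> ring
  have hk : (z : En F) * lt (rot S.A (f + τ • g) * rot S.A f - rot S.A f * rot S.A (f + τ • g)) =
      lt (rot S.A (f + τ • g) * rot S.A f - rot S.A f * rot S.A (f + τ • g)) * (z : En F) := by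
    rw [lt_sub', lt_mul, lt_mul, mul_sub, sub_mul]
    have e1 := congrArg Units.val hc.eq
    have e2 := congrArg Units.val hc'.eq
    simp only [hσ, hσ', Units.val_mul, ltU_val, rotGL_val] at e1 e2
    rw [e1, e2]
  rw [hdiff, lt_smul, mul_smul_comm, smul_mul_assoc] at hk
  refine smul_right_injective _ (div_ne_zero (mul_ne_zero (mul_ne_zero ?_ fr.f0) hτ) fr'.f0) hk
  rw [show (4 : F) = 2 * 2 by norm_num]
  exact mul_ne_zero S.A.two S.A.two

end Cfsg.Agent.H69.OmegaTwelve.Tens
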