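import Cfsg.Agent.H69.OmegaTwelve.Tens.Blocks

/-!
Tensor elements fixing a block, and the descent from the centraliser of a half turn to that pointwise stabiliser.
-/

set_option autoImplicit false

namespace Cfsg.Agent.H69.OmegaTwelve.Tens

open Module Matrix Cfsg.Agent.H24.Tensor Cfsg.Agent.H98.TensorGL

variable {F : Type*} [Field F]

/-- A group of isometries of `O_3 ⊗ O_4^-` with the elements it has to contain. -/
structure Amb (S : Sys F 3 4) (X : Subgroup (Un F)) : Prop where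
  sA : S.A.s = 1
  sD : S.D.s = 1
  np : NoPlane S.D
  five : 5 ≤ Nat.card F
  iso : ∀ h ∈ X, S.Iso (h : En F)
  turn : ∀ (u : Fin 3 → F) (hu : S.A.B u u ≠ 0), ltU (rotGL S.A hu) ∈ X
  small : ∀ β ∈ S.D.sieGrp, rtU β ∈ X
  neg : ∀ e f g, Frame S.A e f g → ∀ h ∈ X, Fix e (h : En F) → Fix f (h : En F) →
    (∀ v, (h : En F) (pure v g) = -pure v g) → False

variable {S : Sys F 3 4} {X : Subgroup (Un F)} (hX : Amb S X)
include hX

/-- A tensor fixing a block acts on the first factor. -/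
theorem Amb.fix_tens {e : Fin 3 → F} (he : S.A.B e e ≠ 0) {y : Un F} (hy : y ∈ X) (hf : Fix e (y : En F))
    (ht : IsTens y) : ∃ M : GL (Fin 3) F, y = ltU M ∧ (M : Matrix (Fin 3) (Fin 3) F) *ᵥ e = e ∧
      ∀ u w, S.A.B ((M : Matrix (Fin 3) (Fin 3) F) *ᵥ u) ((M : Matrix (Fin 3) (Fin 3) F) *ᵥ w) = S.A.B u w := by
  obtain ⟨P, Q, hPQ⟩ := ht
  set k := S.A.B e ((P : Matrix (Fin 3) (Fin 3) F) *ᵥ e) / S.A.B e e with hk
  have hQ : ∀ v, k • ((Q : Matrix (Fin 4) (Fin 4) F) *ᵥ v) = v := fun v => by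
    have h1 := congrArg (bl S.A e) (hf v)
    rw [hPQ, lt_rt_pure, bl_pure, bl_pure] at h1
    rw [hk, div_eq_inv_mul, mul_smul, h1, inv_smul_smul₀ he]
  have hk0 : k ≠ 0 := fun h0 => by
    have := hQ (Pi.single 0 1)
    rw [h0, zero_smul] at this
    simpa using congrFun this 0
  set M : Matrix (Fin 3) (Fin 3) F := k⁻¹ • (P : Matrix (Fin 3) (Fin 3) F) with hM
  have hyM : (y : En F) = lt M := by
    rw [hPQ, hM, lt_smul, show (Q : Matrix (Fin 4) (Fin 4) F) = k⁻¹ • 1 from Matrix.ext_iff_mulVec.2 fun v => by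
      rw [Matrix.smul_mulVec, Matrix.one_mulVec]
      conv_rhs => rw [← hQ v, inv_smul_smul₀ hk0], rt_smul, rt_one, mul_smul_comm, mul_one]
  have hu : IsUnit M := by
    rw [hM]
    exact (Units.mk0 k⁻¹ (inv_ne_zero hk0) • P).isUnit
  obtain ⟨Mu, hMu⟩ := hu
  refine ⟨Mu, Units.ext (by rw [ltU_val, hMu, hyM]), ?_, fun u w => ?_⟩
  · have hv : (Pi.single 0 1 : Fin 4 → F) ≠ 0 := by simp
    exact pure_injective hv (by rw [← lt_pure, hMu, ← hyM, hf])
  · obtain ⟨v₀, hv₀⟩ : ∃ v₀, S.D.B v₀ v₀ ≠ 0 := by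
      obtain ⟨z, -, hz⟩ := S.D.ndOn_top.aniso S.D hX.sD (U := ⊤) (Bil.ne_bot_of_pos (by
        rw [Bil.finrank_top_eq]; norm_num))
      exact ⟨z, hz⟩
    have h1 := hX.iso y hy (pure v₀ u) (pure v₀ w)
    rw [hyM, lt_pure, lt_pure, S.Bt_pure_pure, S.Bt_pure_pure, ← hMu] at h1
    exact mul_left_cancel₀ hv₀ h1

/-- Tensors fixing a block rotate the perpendicular plane. -/
theorem Amb.fix_tens_coord {e f g : Fin 3 → F} (fr : Frame S.A e f g) {y : Un F} (hy : y ∈ X)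
    (hf : Fix e (y : En F)) (ht : IsTens y) :
    ∃ (M : GL (Fin 3) F) (x c : F), y = ltU M ∧ (M : Matrix (Fin 3) (Fin 3) F) *ᵥ e = e ∧
      (M : Matrix (Fin 3) (Fin 3) F) *ᵥ f = x • f + c • g ∧
      (M : Matrix (Fin 3) (Fin 3) F) *ᵥ g = (-(S.A.B g g / S.A.B f f * c)) • f + x • g ∧
      x * x + S.A.B g g / S.A.B f f * (c * c) = 1 := by
  have hs := hX.sA
  obtain ⟨M, rfl, hMe, hMi⟩ := hX.fix_tens fr.e0 hy hf ht
  set P := (M : Matrix (Fin 3) (Fin 3) F) with hP
  have hef : S.A.B e (P *ᵥ f) = 0 := by rw [← hMe, hMi, fr.ef]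
  have heg : S.A.B e (P *ᵥ g) = 0 := by rw [← hMe, hMi, fr.eg]
  have hF := fr.coord hs hef
  have hG := fr.coord hs heg
  set x := S.A.B f (P *ᵥ f) / S.A.B f f
  set c := S.A.B g (P *ᵥ f) / S.A.B g g
  set z := S.A.B f (P *ᵥ g) / S.A.B f f
  set w := S.A.B g (P *ᵥ g) / S.A.B g g
  clear_value x c z w
  set a := S.A.B f f with ha
  set d := S.A.B g g with hd
  have hq : ∀ p q r t : F, S.A.B (p • f + q • g) (r • f + t • g) = p * r * a + q * t * d := fun p q r t => by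
    simp only [map_add, map_smul, LinearMap.add_apply, LinearMap.smul_apply, smul_eq_mul, fr.fg, fr.gf hs]
    ring
  have e1 : x * x * a + c * c * d = a := by rw [← hq, ← hF, hMi]
  have e2 : x * z * a + c * w * d = 0 := by rw [← hq, ← hF, ← hG, hMi, fr.fg]
  have e3 : z * z * a + w * w * d = d := by rw [← hq, ← hG, hMi]
  have e4 : (x * w - c * z) * (x * w - c * z) = 1 := mul_left_cancel₀ (mul_ne_zero fr.f0 fr.g0) (by
    linear_combination (z * z * a + w * w * d) * e1 + a * e3 - (x * z * a + c * w * d) * e2)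
  set δ := x * w - c * z with hδ
  have ea : a ≠ 0 := fr.f0
  have ed : d ≠ 0 := fr.g0
  have ez : z = -(d / a * c) * δ := by
    field_simp
    linear_combination (-z) * e1 + x * e2 + c * d * hδ
  have ew : w = x * δ := mul_left_cancel₀ ea (by linear_combination c * e2 - w * e1 - a * x * hδ)
  have e5 : x * x + d / a * (c * c) = 1 := by field_simp; linear_combination e1
  rcases mul_self_eq_one_iff.1 e4 with h1 | h1
  · exact ⟨M, x, c, rfl, hMe, hF, by rw [hG, ez, ew, h1]; simp, e5⟩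
  exfalso
  rw [h1] at ez ew
  obtain ⟨h, k, fr', hh, hk⟩ : ∃ h k, Frame S.A e h k ∧ P *ᵥ h = h ∧ P *ᵥ k = -k := by
    rcases eq_or_ne x 1 with hx | hx
    · have hc : c = 0 := mul_self_eq_zero.1 ((mul_eq_zero.1 (show d * (c * c) = 0 by
        rw [hx] at e1; linear_combination e1)).resolve_left fr.g0)
      subst hc hx
      exact ⟨f, g, fr, by rw [hF]; simp, by rw [hG, ez, ew]; simp⟩
    have hne : (1 - x) ≠ 0 := sub_ne_zero.2 (Ne.symm hx)
    refine ⟨(d / a * c) • f + (1 - x) • g, (1 - x) • f - c • g, ⟨fr.e0, ?_, ?_, ?_, ?_, ?_⟩, ?_, ?_⟩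
    · rw [hq, show d / a * c * (d / a * c) * a + (1 - x) * (1 - x) * d = 2 * (1 - x) * d by
        field_simp; linear_combination e1]
      exact mul_ne_zero (mul_ne_zero S.A.two hne) fr.g0
    · rw [show (1 - x) • f - c • g = (1 - x) • f + (-c) • g by rw [neg_smul, sub_eq_add_neg], hq,
        show (1 - x) * (1 - x) * a + -c * -c * d = 2 * (1 - x) * a by linear_combination e1]
      exact mul_ne_zero (mul_ne_zero S.A.two hne) fr.f0
    · simp [fr.ef, fr.eg]
    · simp [fr.ef, fr.eg]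
    · rw [show (1 - x) • f - c • g = (1 - x) • f + (-c) • g by rw [neg_smul, sub_eq_add_neg], hq]
      field_simp
      ring
    · rw [Matrix.mulVec_add, Matrix.mulVec_smul, Matrix.mulVec_smul, hF, hG, ez, ew]
      match_scalars <;> field_simp
      · ring
      · linear_combination e1
    · rw [Matrix.mulVec_sub, Matrix.mulVec_smul, Matrix.mulVec_smul, hF, hG, ez, ew]
      match_scalars <;> field_simp
      · linear_combination -e1
      · ring
  refine hX.neg e h k fr' (ltU M) hy hf (fun v => ?_) fun v => ?_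
  · rw [ltU_val, lt_pure, hh]
  · rw [ltU_val, lt_pure, hk, map_neg]

/-- Tensors fixing a block commute. -/
theorem Amb.fix_tens_comm {e : Fin 3 → F} (he : S.A.B e e ≠ 0) {y y' : Un F} (hy : y ∈ X) (hy' : y' ∈ X)
    (hf : Fix e (y : En F)) (hf' : Fix e (y' : En F)) (ht : IsTens y) (ht' : IsTens y') : Commute y y' := by
  obtain ⟨f, g, fr⟩ := exists_frame S.A hX.sA he
  obtain ⟨M, x, c, rfl, h1, h2, h3, -⟩ := hX.fix_tens_coord fr hy hf ht
  obtain ⟨M', x', c', rfl, h1', h2', h3', -⟩ := hX.fix_tens_coord fr hy' hf' ht'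
  refine Commute.map (Units.ext (fr.ext_vec hX.sA ?_ ?_ ?_)) ltU
  all_goals
    rw [Units.val_mul, Units.val_mul, ← Matrix.mulVec_mulVec, ← Matrix.mulVec_mulVec]
    simp only [h1, h2, h3, h1', h2', h3', Matrix.mulVec_add, Matrix.mulVec_smul]
  all_goals (try module)

/-- Fixing a block pointwise implies commuting with its half turn. -/
theorem Amb.commute_of_fix {e : Fin 3 → F} (he : S.A.B e e ≠ 0) {y : Un F} (hy : y ∈ X)
    (hf : Fix e (y : En F)) : Commute y (ltU (rotGL S.A he)) := by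
  obtain ⟨f, g, fr⟩ := exists_frame S.A hX.sA he
  refine fr.commute_of_block hX.sA rfl (hX.iso y hy) fun v => ?_
  rw [comp_of_apply he (M := 1) (w := e) (fun v => by rw [hf, Matrix.one_mulVec]), div_self he, one_smul,
    Matrix.one_mulVec, hf]

variable [Finite F]

/-- An element of the centraliser of a half turn is a tensor if its twists are. -/
theorem Amb.tens_of_twist {e : Fin 3 → F} (he : S.A.B e e ≠ 0) {h : Un F} (hh : h ∈ X)
    (hc : Commute h (ltU (rotGL S.A he)))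
    (hy : ∀ β ∈ S.D.sieGrp, ∀ β' ∈ S.D.sieGrp, Fix e ((h * rtU β * h⁻¹ * (rtU β')⁻¹ : Un F) : En F) →
      IsTens (h * rtU β * h⁻¹ * (rtU β')⁻¹)) : IsTens h := by
  obtain ⟨f, g, fr⟩ := exists_frame S.A hX.sA he
  have hs := hX.sA
  have hb := fr.block_of_commute hs hc
  set C := comp S.A (h : En F) e e with hC
  have hCi : ∀ v w, S.D.B (C *ᵥ v) (C *ᵥ w) = S.D.B v w := fr.block_iso hs rfl (hX.iso h hh) hb
  obtain ⟨Q, hQ⟩ : IsUnit C := Matrix.mulVec_injective_iff_isUnit.1 fun v v' hv => pureL_inj he <|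
    units_injective h <| by rw [hb, hb]; exact congrArg (pure · e) hv
  rw [← hQ] at hCi hb
  have hcj : ∀ β : S.D.sieGrp, Q * (β : GL (Fin 4) F) * Q⁻¹ ∈ S.D.sieGrp := fun β => sieGrp_conj hX.sD hCi β.2
  set ψ : S.D.sieGrp → Un F := fun β => h * rtU (β : GL (Fin 4) F) * h⁻¹ * (rtU (Q * (β : GL (Fin 4) F) * Q⁻¹))⁻¹
    with hψ
  have hmem : ∀ β, ψ β ∈ X := fun β =>
    X.mul_mem (X.mul_mem (X.mul_mem hh (hX.small _ β.2)) (X.inv_mem hh)) (X.inv_mem (hX.small _ (hcj β)))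
  have hfix : ∀ β, Fix e (ψ β : En F) := fun β v => by
    have h1 : ∀ w, ((h⁻¹ : Un F) : En F) (pure ((Q : Matrix (Fin 4) (Fin 4) F) *ᵥ w) e) = pure w e := fun w => by
      rw [← hb, inv_apply_apply]
    rw [hψ]
    simp only [← map_inv, _root_.mul_inv_rev, inv_inv, Units.val_mul, Module.End.mul_apply, rtU_apply,
      ← Matrix.mulVec_mulVec, h1, hb]
    simp only [Matrix.mulVec_mulVec, ← Units.val_mul]
    group
    simp
  have htens : ∀ β, IsTens (ψ β) := fun β => hy β.1 β.2 _ (hcj β) (hfix β)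
  have hcom : ∀ β (γ : GL (Fin 4) F), Commute (ψ β) (rtU γ) := fun β γ => by
    obtain ⟨M, hM, -⟩ := hX.fix_tens he (hmem β) (hfix β) (htens β)
    rw [hM]; exact ltU_rtU_commute _ _
  let φ : S.D.sieGrp →* Un F :=
    { toFun := ψ
      map_one' := by simp [hψ]
      map_mul' := fun β γ => by
        have h1 : h * rtU (β : GL (Fin 4) F) * h⁻¹ = ψ β * rtU (Q * (β : GL (Fin 4) F) * Q⁻¹) := by
          exact (inv_mul_cancel_right _ _).symm
        have h2 : h * rtU (γ : GL (Fin 4) F) * h⁻¹ = ψ γ * rtU (Q * (γ : GL (Fin 4) F) * Q⁻¹) := by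
          exact (inv_mul_cancel_right _ _).symm
        have h3 : h * rtU ((β : GL (Fin 4) F) * (γ : GL (Fin 4) F)) * h⁻¹ =
            h * rtU (β : GL (Fin 4) F) * h⁻¹ * (h * rtU (γ : GL (Fin 4) F) * h⁻¹) := by
          rw [map_mul]; group
        rw [h1, h2, (hcom γ _).symm.mul_mul_mul_comm, ← map_mul] at h3
        show h * rtU ((β : GL (Fin 4) F) * (γ : GL (Fin 4) F)) * h⁻¹ * _ = _
        rw [h3, show Q * ((β * γ : S.D.sieGrp) : GL (Fin 4) F) * Q⁻¹ = Q * (β : GL (Fin 4) F) * Q⁻¹ *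
            (Q * (γ : GL (Fin 4) F) * Q⁻¹) by rw [Subgroup.coe_mul]; group]
        group }
  have hone : ∀ β, ψ β = 1 := hom_trivial hX.sD hX.np hX.five φ fun β γ =>
    hX.fix_tens_comm he (hmem β) (hmem γ) (hfix β) (hfix γ) (htens β) (htens γ)
  set k : Un F := (rtU Q)⁻¹ * h with hk
  have hcommk : ∀ β ∈ S.D.sieGrp, Commute k (rtU β) := fun β hβ => by
    have h1 : h * rtU β * h⁻¹ = rtU (Q * β * Q⁻¹) := mul_inv_eq_one.1 (hone ⟨β, hβ⟩)
    rw [map_mul, map_mul, map_inv, mul_inv_eq_iff_eq_mul] at h1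
    show _ = _
    rw [hk, mul_assoc, h1]
    group
  have hsc : ∀ i x : Fin 3 → F, ∃ t : F, comp S.A (k : En F) i x = t • 1 := fun i x => by
    refine scalar_of_comm hX.sD hX.np fun β hβ => Matrix.ext_iff_mulVec.2 fun v => ?_
    rw [← Matrix.mulVec_mulVec, ← Matrix.mulVec_mulVec, comp_mulVec, comp_mulVec, Matrix.mulVec_smul,
      ← rtU_apply, ← Module.End.mul_apply, ← Units.val_mul, (hcommk β hβ).eq, Units.val_mul,
      Module.End.mul_apply]
    congr 1
    rw [fr.apply hs (k : En F) v x]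
    simp only [map_add, rtU_apply, bl_pure, Matrix.mulVec_add, Matrix.mulVec_smul]
  choose t ht using hsc
  set P : Matrix (Fin 3) (Fin 3) F := t e e • S.A.tau ((S.A.B e e)⁻¹ • e) e + t f e • S.A.tau ((S.A.B e e)⁻¹ • f) e
    + t g e • S.A.tau ((S.A.B e e)⁻¹ • g) e + t e f • S.A.tau ((S.A.B f f)⁻¹ • e) f
    + t f f • S.A.tau ((S.A.B f f)⁻¹ • f) f + t g f • S.A.tau ((S.A.B f f)⁻¹ • g) f
    + t e g • S.A.tau ((S.A.B g g)⁻¹ • e) g + t f g • S.A.tau ((S.A.B g g)⁻¹ • f) g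
    + t g g • S.A.tau ((S.A.B g g)⁻¹ • g) g with hP
  have hkP : (k : En F) = lt P := by
    refine fr.ext_op hs (fun v => ?_) (fun v => ?_) fun v => ?_
    all_goals
      rw [fr.apply hs (k : En F) v, lt_pure, ht, ht, ht]
      simp [hP, Matrix.add_mulVec, Matrix.smul_mulVec, Bil.tau_mulVec, fr.ef, fr.eg, fr.fg, fr.fe hs, fr.ge hs,
        fr.gf hs, fr.e0, fr.f0, fr.g0, Matrix.one_mulVec, pure_smul]
  exact isTens_of (by norm_num) (by norm_num) (P := P) (Q := (Q : Matrix (Fin 4) (Fin 4) F)) (by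
    rw [show h = rtU Q * k by rw [hk]; group, Units.val_mul, rtU_val, hkP, lt_rt_comm])

end Cfsg.Agent.H69.OmegaTwelve.Tens
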