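import Cfsg.Agent.H69.OmegaTwelve.Tens.Bridge

/-!
The Siegel group of a single block together with the tensors generates Ω.
-/

set_option autoImplicit false

namespace Cfsg.Agent.H69.OmegaTwelve.Tens

open Module Matrix QuadraticMap Cfsg.Agent.H24.Tensor Cfsg.Agent.H98.TensorGL Cfsg.Agent.Orthogonal Cfsg.Agent.H96
  Cfsg.Agent.H98.OrthMax

variable {F : Type*} [Field F] [Finite F] {ι : Type} [Fintype ι] [DecidableEq ι] {Q : QuadraticForm F (ι → F)}
  {E : ι ≃ Fin 3 × Fin 4} {P : GL ι F} {S : Sys F 3 4}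

/-- Eichler transformations with tensor coordinates in `X`. -/
def InS (Q : QuadraticForm F (ι → F)) (E : ι ≃ Fin 3 × Fin 4) (P : GL ι F) (X : Subgroup (O Q))
    (u w : T F 3 4) : Prop :=
  ∀ (hu : Q (tensorIso E P u) = 0) (hw : polar Q (tensorIso E P u) (tensorIso E P w) = 0),
    Orthogonal.sie (tensorIso E P u) (tensorIso E P w) hu hw ∈ X

variable (hS : ∀ x y, polar Q (tensorIso E P x) (tensorIso E P y) = S.Bt x y)
include hS

omit [Finite F] in
theorem InS.conj {X : Subgroup (O Q)} {u w : T F 3 4} (h : InS Q E P X u w) {k : O Q} (hk : k ∈ X)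
    (hu : S.Bt u u = 0) (hw : S.Bt u w = 0) :
    InS Q E P X ((phi Q E P k : En F) u) ((phi Q E P k : En F) w) := by
  intro h1 h2
  have e : ∀ m, tensorIso E P ((phi Q E P k : En F) m) = (k : (ι → F) ≃ₗ[F] (ι → F)) (tensorIso E P m) := fun m => by
    rw [phi_apply, LinearEquiv.apply_symm_apply]
  have := X.mul_mem (X.mul_mem hk (h (by rw [q_val hS, hu, zero_div]) (by rw [hS, hw]))) (X.inv_mem hk)
  rw [sie_conj] at this
  convert this using 1
  exact Orthogonal.sie_congr _ _ _ _ (e u) (e w)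

variable (hsA : S.A.s = 1) (hsD : S.D.s = 1) (np : NoPlane S.D) (h5 : 5 ≤ Nat.card F) (hQ : Nondeg Q)
include hsA hsD np h5 hQ

theorem sieGroup_le_of_single (hn : 3 ≤ finrank F (ι → F)) {X : Subgroup (O Q)}
    (hturn : ∀ (u : Fin 3 → F) (hu : S.A.B u u ≠ 0), ∃ k ∈ X, phi Q E P k = ltU (rotGL S.A hu))
    (hsingle : Single S (X.map (phi Q E P))) : sieGroup Q ≤ X := by
  obtain ⟨e, f₀, g₀, fr₀, hE⟩ := hsingle
  have hE' : ∀ β ∈ S.D.sieGrp, ∃ k ∈ X,
      (∀ v, (phi Q E P k : En F) (pure v e) = pure ((β : Matrix (Fin 4) (Fin 4) F) *ᵥ v) e) ∧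
      ∀ h, S.A.B e h = 0 → ∀ v, (phi Q E P k : En F) (pure v h) = pure v h := by
    intro β hβ
    obtain ⟨z, ⟨⟨k, hk, rfl⟩, hf, hg⟩, hz⟩ := hE hβ
    refine ⟨k, hk, hz, fun h heh v => ?_⟩
    rw [fr₀.coord hsA heh, map_add, map_smul, map_smul, ← pure_smul, ← pure_smul, map_add, hf, hg]
  have he := fr₀.e0
  have htwo := S.two
  have hBt : ∀ v w u z, S.Bt (pure v u) (pure w z) = S.D.B v w * S.A.B u z := fun v w u z => S.Bt_pure_pure v w u z
  -- first centres
  have hS1 : ∀ x z, S.D.B x x = 0 → S.D.B x z = 0 → InS Q E P X (pure x e) (pure z e) := by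
    intro x z hx hz hu hw
    have hz' : S.D.B x (S.A.B e e • z) = 0 := by rw [map_smul, hz, smul_zero]
    obtain ⟨k, hk, hke, hkf⟩ := hE' _ (S.D.sie_mem hx hz')
    suffices hk' : phi Q E P k = phi Q E P (Orthogonal.sie (tensorIso E P (pure x e)) (tensorIso E P (pure z e)) hu hw)
      by rwa [← phi_injective hk']
    refine fr₀.ext_units hsA (fun v => ?_) (fun v => ?_) fun v => ?_
    · rw [hke, phi_sie hS, Bil.sie_val, S.D.sieM_mulVec hx hz', hsD, hBt, hBt, hBt]
      simp only [map_smul, LinearMap.smul_apply, smul_eq_mul, pure_add, pure_sub, pure_smul, smul_smul]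
      have := S.A.B e e
      match_scalars <;> field_simp
    · rw [hkf f₀ fr₀.ef, phi_sie hS, hBt, hBt, hBt, fr₀.ef]; simp
    · rw [hkf g₀ fr₀.eg, phi_sie hS, hBt, hBt, hBt, fr₀.eg]; simp
  -- mixed centres, along a vector of the other ratio
  have hmix : ∀ f, S.A.B e f = 0 → ¬ IsSquare (S.A.B f f / S.A.B e e) → ∀ x x',
      S.D.B x x = 0 → S.D.B x' x' = 0 → x ≠ 0 → x' ≠ 0 → ∀ r : F,
      InS Q E P X (pure x' e) (r • pure x f) := by
    intro f hef hns
    have hfe := S.A.comm hef
    have hf0 : S.A.B f f ≠ 0 := fun h0 => hns (by rw [h0, zero_div]; exact IsSquare.zero)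
    obtain ⟨t, ht, htc⟩ := exists_param h5 (div_ne_zero hf0 he) (-1)
    have hw0 : S.A.B (e + t • f) (e + t • f) ≠ 0 := fun h0 => htc (by
      simp [hef, hfe] at h0
      field_simp
      linear_combination h0)
    set l := 2 * S.A.B (e + t • f) e / S.A.B (e + t • f) (e + t • f) with hl
    have hl0 : l ≠ 0 := div_ne_zero (mul_ne_zero htwo (by simp [hfe]; exact he)) hw0
    have hl1 : l - 1 ≠ 0 := fun h0 => hns ⟨1 / t, by
      rw [sub_eq_zero, hl, div_eq_one_iff_eq hw0] at h0
      simp [hef, hfe] at h0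
      field_simp
      linear_combination -h0⟩
    set e' := rot S.A (e + t • f) *ᵥ e with he'
    have he'eq : e' = (l - 1) • e + (l * t) • f := by
      rw [he', rot_mulVec, ← hl]; module
    obtain ⟨kt, hkt, hkte⟩ := hturn _ hw0
    -- the diagonal centre
    have hdiag : ∀ x, S.D.B x x = 0 → x ≠ 0 → ∀ r : F, InS Q E P X (pure x e) (r • pure x f) := by
      intro x hx hx0 r
      obtain ⟨y, -, hyy, hxy⟩ := S.D.ndOn_top.partner S.D (x := x) trivial hx0 hx
      have hU := S.D.ndOn_top.cut_pair S.D (x := x) (y := y) trivial trivial hx hyy hxy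
      have hd := S.D.finrank_cut ⊤ x y
      rw [Bil.finrank_top_eq] at hd
      obtain ⟨z, hz, hzz⟩ := hU.aniso S.D hsD (Bil.ne_bot_of_pos (by omega))
      obtain ⟨-, hxz, -⟩ := S.D.mem_cut.1 hz
      have hzx := S.D.comm hxz
      set c := -r / (l * t) with hc
      set s := c / (S.D.B z z * S.A.B e e * (l - 1)) with hsdef
      set d : T F 3 4 := pure x e with hd'
      set w : T F 3 4 := pure z e with hw'
      set a' : T F 3 4 := pure x e' with ha'
      set b' : T F 3 4 := pure (s • z) e' with hb'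
      have hee' : S.A.B e e' = (l - 1) * S.A.B e e := by rw [he'eq]; simp [hef]
      have he'e : S.A.B e' e = (l - 1) * S.A.B e e := by rw [he'eq]; simp [hfe]
      have h_dd : S.Bt d d = 0 := by rw [hBt, hx, zero_mul]
      have h_dw : S.Bt d w = 0 := by rw [hBt, hxz, zero_mul]
      have h_aa : S.Bt a' a' = 0 := by rw [hBt, hx, zero_mul]
      have h_ab : S.Bt a' b' = 0 := by rw [hBt, map_smul, hxz, smul_zero, zero_mul]
      have h1 : InS Q E P X a' b' := by
        have := (hS1 x (s • z) hx (by rw [map_smul, hxz, smul_zero])).conj hS hkt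
          (by rw [hBt, hx, zero_mul]) (by rw [hBt, map_smul, hxz, smul_zero, zero_mul])
        rwa [hkte, t_apply, t_apply, ← he'] at this
      have hQd : Q (tensorIso E P d) = 0 := by rw [q_val hS, h_dd, zero_div]
      have hpdw : polar Q (tensorIso E P d) (tensorIso E P w) = 0 := by rw [hS, h_dw]
      set k := Orthogonal.sie (tensorIso E P d) (tensorIso E P w) hQd hpdw with hk
      have hkX : k ∈ X := hS1 x z hx hxz hQd hpdw
      have hka : (phi Q E P k : En F) a' = a' := by
        rw [hk, phi_sie hS, hBt, hBt, hBt, hx, hzx]; simp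
      have hkb : (phi Q E P k : En F) b' = b' + c • d := by
        rw [hk, phi_sie hS, hBt, hBt, hBt, hee', map_smul, map_smul, hxz, smul_zero, smul_eq_mul]
        rw [hsdef]
        have := fr₀.e0
        match_scalars <;> field_simp <;> ring
      have h2 := h1.conj hS hkX h_aa h_ab
      rw [hka, hkb] at h2
      intro hu hw
      have hQa : Q (tensorIso E P a') = 0 := by rw [q_val hS, h_aa, zero_div]
      have hpab : polar Q (tensorIso E P a') (tensorIso E P b') = 0 := by rw [hS, h_ab]
      have hpad : polar Q (tensorIso E P a') (tensorIso E P (c • d)) = 0 := by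
        rw [hS, map_smul, hBt, hx, zero_mul, smul_zero]
      have hpsum : polar Q (tensorIso E P a') (tensorIso E P (b' + c • d)) = 0 := by
        rw [map_add, polar_add_right, hpab, hpad, add_zero]
      have h3 := X.mul_mem (h2 hQa hpsum) (X.inv_mem (h1 hQa hpab))
      rw [sie_inv, sie_mul hQa hpsum (by rw [polar_neg_right, hpab, neg_zero])] at h3
      convert h3 using 1
      apply phi_injective (E := E) (P := P)
      rw [Orthogonal.sie_congr (u' := tensorIso E P a') (w' := tensorIso E P (c • d)) _ _ hQa hpad rfl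
        (by rw [map_add]; abel)]
      refine Units.ext (LinearMap.ext fun m => ?_)
      rw [phi_sie hS, phi_sie hS, ha', he'eq, map_add, map_smul, map_smul]
      simp only [map_add, map_smul, LinearMap.add_apply, LinearMap.smul_apply, smul_eq_mul, hd', hBt, hx,
        zero_mul, mul_zero, zero_div, sub_zero, smul_add, smul_smul]
      rw [hc]
      match_scalars <;> field_simp <;> ring
    intro x x' hx hx' hx0 hx'0 r
    obtain ⟨β, hβ, hβx⟩ := S.D.moves (fun _ => le_refl 4) hx0 hx'0 hx hx'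
    obtain ⟨k, hk, hke, hkf⟩ := hE' β hβ
    have := (hdiag x hx hx0 r).conj hS hk (by rw [hBt, hx, zero_mul])
      (by rw [map_smul, hBt, hx, zero_mul, smul_zero])
    rwa [hke, hβx, map_smul, hkf f hef] at this
  -- the centres are full
  have hfull : ∀ x, S.D.B x x = 0 → x ≠ 0 → Full X (tensorIso E P (pure x e)) := by
    intro x hx hx0 w hu hw
    obtain ⟨m, rfl⟩ := (tensorIso E P).surjective w
    obtain ⟨c, hc, hcns⟩ : ∃ c : F, c ≠ 0 ∧ ¬ IsSquare (c / S.A.B e e) := by
      obtain ⟨n, hn0, hn⟩ := exists_sign (A := S.A) hsA (-1 : ℤˣ)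
      refine ⟨n * S.A.B e e, mul_ne_zero hn0 he, ?_⟩
      rw [mul_div_cancel_right₀ _ he, ← sqSign_eq_one_iff, hn]; decide
    obtain ⟨f, g, fr, hfc⟩ := exists_frame_value S.A hsA he hc
    have hns : ¬ IsSquare (S.A.B f f / S.A.B e e) := by rw [hfc]; exact hcns
    obtain ⟨τ, hτ, hτc⟩ := exists_param h5 (div_ne_zero fr.g0 fr.f0) (-1)
    have hh : S.A.B (f + τ • g) (f + τ • g) ≠ 0 := fun h0 => hτc (by
      simp [fr.fg, fr.gf hsA] at h0
      have := fr.f0
      field_simp
      linear_combination h0)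
    set l := 2 * S.A.B (f + τ • g) f / S.A.B (f + τ • g) (f + τ • g) with hl
    have hl0 : l ≠ 0 := div_ne_zero (mul_ne_zero htwo (by simp [fr.gf hsA]; exact fr.f0)) hh
    set f₂ := rot S.A (f + τ • g) *ᵥ f with hf₂
    have hf₂eq : f₂ = (l - 1) • f + (l * τ) • g := by rw [hf₂, rot_mulVec, ← hl]; module
    have hf₂ns : ¬ IsSquare (S.A.B f₂ f₂ / S.A.B e e) := by rw [hf₂, rot_iso hsA hh]; exact hns
    have hef₂ : S.A.B e f₂ = 0 := by rw [hf₂eq]; simp [fr.ef, fr.eg]
    -- the admissible second vectors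
    let W : AddSubgroup (T F 3 4) :=
      { carrier := {n | S.Bt (pure x e) n = 0 ∧ InS Q E P X (pure x e) n}
        zero_mem' := ⟨map_zero _, fun hu hw => by
          convert X.one_mem
          exact O.ext_app fun y => by rw [sie_app]; simp⟩
        add_mem' := by
          rintro a b ⟨ha, ha'⟩ ⟨hb, hb'⟩
          refine ⟨by rw [map_add, ha, hb, add_zero], fun hu hw => ?_⟩
          have h1 := X.mul_mem (ha' hu (by rw [hS, ha])) (hb' hu (by rw [hS, hb]))
          rw [sie_mul hu _ (by rw [hS, hb])] at h1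
          convert h1 using 1
          exact Orthogonal.sie_congr _ _ _ _ rfl (map_add _ _ _)
        neg_mem' := by
          rintro a ⟨ha, ha'⟩
          refine ⟨by rw [map_neg, ha, neg_zero], fun hu hw => ?_⟩
          have h1 := X.inv_mem (ha' hu (by rw [hS, ha]))
          rw [sie_inv] at h1
          convert h1 using 1
          exact Orthogonal.sie_congr _ _ _ _ rfl (map_neg _ _) }
    have hWe : ∀ p, S.D.B x p = 0 → pure p e ∈ W := fun p hp =>
      ⟨by rw [hBt, hp, zero_mul], hS1 x p hx hp⟩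
    have hWf : ∀ h, S.A.B e h = 0 → ¬ IsSquare (S.A.B h h / S.A.B e e) → ∀ q, pure q h ∈ W := by
      intro h heh hhns q
      let M : Submodule F (Fin 4 → F) :=
        { carrier := {q | ∀ r : F, pure (r • q) h ∈ W}
          zero_mem' := fun r => by rw [smul_zero, pure_zero]; exact W.zero_mem
          add_mem' := fun ha hb r => by rw [smul_add, pure_add]; exact W.add_mem (ha r) (hb r)
          smul_mem' := fun c q hq r => by rw [smul_smul]; exact hq (r * c) }
      have hM : (⊤ : Submodule F (Fin 4 → F)) ≤ M :=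
        S.D.ndOn_top.le_of_isotropic S.D hsD (by rw [Bil.finrank_top_eq]; norm_num) M fun y _ hy r => by
          rcases eq_or_ne y 0 with rfl | hy0
          · rw [smul_zero, pure_zero]; exact W.zero_mem
          refine ⟨by rw [hBt, heh, mul_zero], ?_⟩
          rw [pure_smul]
          exact hmix h heh hhns y x hy hx hy0 hx0 r
      have := hM (show q ∈ ⊤ from trivial) 1
      rwa [one_smul] at this
    have hm := fr.decomp hsA m
    set p := (S.A.B e e)⁻¹ • bl S.A e m
    set q := (S.A.B f f)⁻¹ • bl S.A f m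
    set r := (S.A.B g g)⁻¹ • bl S.A g m
    clear_value p q r
    subst hm
    have hxp : S.D.B x p = 0 := by
      have h1 := hw
      rw [hS, map_add, map_add, hBt, hBt, hBt, fr.ef, fr.eg, mul_zero, mul_zero, add_zero, add_zero,
        mul_eq_zero] at h1
      exact h1.resolve_right he
    have hg : pure r g ∈ W := by
      have h1 := W.sub_mem (hWf f₂ hef₂ hf₂ns ((l * τ)⁻¹ • r)) (hWf f fr.ef hns ((l - 1) • (l * τ)⁻¹ • r))
      convert h1 using 1
      rw [hf₂eq, map_add, map_smul, map_smul]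
      simp only [pure_smul, smul_smul]
      match_scalars <;> field_simp <;> ring
    exact (W.add_mem (W.add_mem (hWe p hxp) (hWf f fr.ef hns q)) hg).2 hu hw
  obtain ⟨x, y, -, hx0, hxx, hyy, hxy, -⟩ := exists_pair (D := S.D) hsD
  have hy0 : y ≠ 0 := fun h => by rw [h, map_zero] at hxy; exact zero_ne_one hxy
  refine sieGroup_le_of_pair hQ hn (hfull x hxx hx0) (hfull y hyy hy0) ?_ ?_ ?_
  · rw [q_val hS, hBt, hxx, zero_mul, zero_div]
  · rw [q_val hS, hBt, hyy, zero_mul, zero_div]
  · rw [hS, hBt, hxy, one_mul]; exact he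

end Cfsg.Agent.H69.OmegaTwelve.Tens
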