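import Cfsg.Agent.H24.Tensor.Geom
import Cfsg.Agent.Orthogonal.Spinor

/-!
Orthogonal frames and half turns of a ternary symmetric form over a finite field of odd order.
-/

set_option autoImplicit false

namespace Cfsg.Agent.H69.OmegaTwelve.Tens

open Module Matrix Cfsg.Agent.H24.Tensor Cfsg.Agent.Orthogonal

variable {F : Type*} [Field F] (A : Bil F 3)

/-- The half turn about `u`. -/
noncomputable def rot (u : Fin 3 → F) : Matrix (Fin 3) (Fin 3) F := (2 / A.B u u) • A.tau u u - 1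

theorem rot_mulVec (u x : Fin 3 → F) : rot A u *ᵥ x = (2 * A.B u x / A.B u u) • u - x := by
  rw [rot, Matrix.sub_mulVec, Matrix.smul_mulVec, Bil.tau_mulVec, Matrix.one_mulVec, smul_smul, div_mul_eq_mul_div]

theorem rot_self {u : Fin 3 → F} (hu : A.B u u ≠ 0) : rot A u *ᵥ u = u := by
  rw [rot_mulVec, mul_div_assoc, div_self hu, mul_one, two_smul, add_sub_cancel_right]

theorem rot_perp {u x : Fin 3 → F} (h : A.B u x = 0) : rot A u *ᵥ x = -x := by
  rw [rot_mulVec, h, mul_zero, zero_div, zero_smul, zero_sub]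

theorem rot_sq {u : Fin 3 → F} (hu : A.B u u ≠ 0) : rot A u * rot A u = 1 :=
  Matrix.ext_iff_mulVec.2 fun x => by
    rw [← Matrix.mulVec_mulVec, rot_mulVec A u x, Matrix.mulVec_sub, Matrix.mulVec_smul, rot_self A hu, rot_mulVec,
      Matrix.one_mulVec]
    abel

/-- The half turn as an invertible matrix. -/
noncomputable def rotGL {u : Fin 3 → F} (hu : A.B u u ≠ 0) : GL (Fin 3) F :=
  ⟨rot A u, rot A u, rot_sq A hu, rot_sq A hu⟩

theorem rotGL_val {u : Fin 3 → F} (hu : A.B u u ≠ 0) : (rotGL A hu : Matrix (Fin 3) (Fin 3) F) = rot A u := rfl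

variable {A}

/-- Three pairwise orthogonal anisotropic vectors. -/
structure Frame (A : Bil F 3) (e f g : Fin 3 → F) : Prop where
  e0 : A.B e e ≠ 0
  f0 : A.B f f ≠ 0
  g0 : A.B g g ≠ 0
  ef : A.B e f = 0
  eg : A.B e g = 0
  fg : A.B f g = 0

section Sym

variable (hs : A.s = 1)
include hs

theorem rot_iso {u : Fin 3 → F} (hu : A.B u u ≠ 0) (x y : Fin 3 → F) :
    A.B (rot A u *ᵥ x) (rot A u *ᵥ y) = A.B x y := by
  simp only [rot_mulVec, map_sub, map_smul, LinearMap.sub_apply, LinearMap.smul_apply, smul_eq_mul,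
    A.symm' hs u x]
  field_simp
  ring

namespace Frame

variable {e f g : Fin 3 → F} (h : Frame A e f g)
include h

theorem fe : A.B f e = 0 := by rw [A.symm' hs]; exact h.ef
theorem ge : A.B g e = 0 := by rw [A.symm' hs]; exact h.eg
theorem gf : A.B g f = 0 := by rw [A.symm' hs]; exact h.fg

theorem swap₂₃ : Frame A e g f := ⟨h.e0, h.g0, h.f0, h.eg, h.ef, h.gf hs⟩

theorem rotate : Frame A f g e := ⟨h.f0, h.g0, h.e0, h.fg, h.fe hs, h.ge hs⟩

/-- The vectors of a frame span. -/
theorem expand (x : Fin 3 → F) :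
    x = (A.B e x / A.B e e) • e + (A.B f x / A.B f f) • f + (A.B g x / A.B g g) • g := by
  have hli : LinearIndependent F ![e, f, g] := by
    rw [Fintype.linearIndependent_iff]
    intro c hc
    have hc' : c 0 • e + c 1 • f + c 2 • g = 0 := by simpa [Fin.sum_univ_three] using hc
    have h1 := congrArg (A.B e) hc'
    have h2 := congrArg (A.B f) hc'
    have h3 := congrArg (A.B g) hc'
    simp [h.ef, h.eg, h.fg, h.fe hs, h.ge hs, h.gf hs, h.e0, h.f0, h.g0] at h1 h2 h3
    intro i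
    fin_cases i <;> assumption
  have htop : Submodule.span F (Set.range ![e, f, g]) = ⊤ :=
    hli.span_eq_top_of_card_eq_finrank (by simp)
  obtain ⟨c, hc⟩ := (Submodule.mem_span_range_iff_exists_fun F).1
    (show x ∈ Submodule.span F (Set.range ![e, f, g]) from htop ▸ Submodule.mem_top)
  have hc' : c 0 • e + c 1 • f + c 2 • g = x := by simpa [Fin.sum_univ_three] using hc
  rw [← hc']
  simp [h.ef, h.eg, h.fg, h.fe hs, h.ge hs, h.gf hs, h.e0, h.f0, h.g0, mul_div_assoc]

theorem coord {x : Fin 3 → F} (hx : A.B e x = 0) :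
    x = (A.B f x / A.B f f) • f + (A.B g x / A.B g g) • g := by
  conv_lhs => rw [h.expand hs x]
  rw [hx, zero_div, zero_smul, zero_add]

theorem ext_vec {M N : Matrix (Fin 3) (Fin 3) F} (he : M *ᵥ e = N *ᵥ e) (hf : M *ᵥ f = N *ᵥ f)
    (hg : M *ᵥ g = N *ᵥ g) : M = N :=
  Matrix.ext_iff_mulVec.2 fun x => by
    rw [h.expand hs x]
    simp only [Matrix.mulVec_add, Matrix.mulVec_smul, he, hf, hg]

/-- The product of the last two values does not depend on the frame up to squares. -/
theorem det_class {f' g' : Fin 3 → F} (h' : Frame A e f' g') :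
    ∃ d : F, d ≠ 0 ∧ A.B f' f' * A.B g' g' = d * d * (A.B f f * A.B g g) := by
  have hf' := h.coord hs h'.ef
  have hg' := h.coord hs h'.eg
  have h0 := h'.fg
  set x := A.B f f' / A.B f f
  set y := A.B g f' / A.B g g
  set z := A.B f g' / A.B f f
  set w := A.B g g' / A.B g g
  clear_value x y z w
  have hq : ∀ p q r t : F, A.B (p • f + q • g) (r • f + t • g) = p * r * A.B f f + q * t * A.B g g :=
    fun p q r t => by
      simp only [map_add, map_smul, LinearMap.add_apply, LinearMap.smul_apply, smul_eq_mul, h.fg, h.gf hs]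
      ring
  have e1 : A.B f' f' = x * x * A.B f f + y * y * A.B g g := by rw [hf', hq]
  have e2 : A.B g' g' = z * z * A.B f f + w * w * A.B g g := by rw [hg', hq]
  rw [hf', hg', hq] at h0
  refine ⟨x * w - y * z, fun hd => ?_, ?_⟩
  · refine mul_ne_zero h'.f0 h'.g0 ?_
    rw [e1, e2]
    linear_combination (x * z * A.B f f + y * w * A.B g g) * h0 +
      (x * w - y * z) * (A.B f f * A.B g g) * hd
  · rw [e1, e2]
    linear_combination (x * z * A.B f f + y * w * A.B g g) * h0

end Frame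

variable (A)

/-- Frames exist at every anisotropic vector. -/
theorem exists_frame {e : Fin 3 → F} (he : A.B e e ≠ 0) : ∃ f g, Frame A e f g := by
  have hU := (A.ndOn_top).cut_aniso A hs (z := e) trivial he
  have h1 := Bil.finrank_inf_ker_add_one (⊤ : Submodule F (Fin 3 → F)) (A.B e)
  rw [Bil.finrank_top_eq] at h1
  obtain ⟨f, hf, g, hg, hff, hgg, hfg, -⟩ := hU.aniso_two A hs (by omega)
  exact ⟨f, g, he, hff, hgg, LinearMap.mem_ker.1 hf.2, LinearMap.mem_ker.1 hg.2, hfg⟩

/-- Frames with a prescribed second value exist. -/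
theorem exists_frame_value [Finite F] {e : Fin 3 → F} (he : A.B e e ≠ 0) {c : F} (hc : c ≠ 0) :
    ∃ f g, Frame A e f g ∧ A.B f f = c := by
  have hU := (A.ndOn_top).cut_aniso A hs (z := e) trivial he
  have h1 := Bil.finrank_inf_ker_add_one (⊤ : Submodule F (Fin 3 → F)) (A.B e)
  rw [Bil.finrank_top_eq] at h1
  obtain ⟨f, hf, hfc⟩ := hU.value A hs (by omega) c
  have hf0 : A.B f f ≠ 0 := by rw [hfc]; exact hc
  have h2 := Bil.finrank_inf_ker_add_one (⊤ ⊓ LinearMap.ker (A.B e)) (A.B f)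
  obtain ⟨g, hg, hgg⟩ := (hU.cut_aniso A hs hf hf0).aniso A hs (Bil.ne_bot_of_pos (by omega))
  exact ⟨f, g, ⟨he, hf0, hgg, LinearMap.mem_ker.1 hf.2, LinearMap.mem_ker.1 hg.1.2,
    LinearMap.mem_ker.1 hg.2⟩, hfc⟩

variable {A}

theorem rot_mulVec_scale {u : Fin 3 → F} (c : F) (hc : c ≠ 0) : rot A (c • u) = rot A u :=
  Matrix.ext_iff_mulVec.2 fun x => by
    simp only [rot_mulVec, map_smul, LinearMap.smul_apply, smul_eq_mul, smul_smul]
    congr 2
    rcases eq_or_ne (A.B u u) 0 with h0 | h0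
    · simp [h0]
    · field_simp

theorem rot_conj {M M' : Matrix (Fin 3) (Fin 3) F} (hM : ∀ x y, A.B (M *ᵥ x) (M *ᵥ y) = A.B x y)
    (hMM : M * M' = 1) (u : Fin 3 → F) : M * rot A u * M' = rot A (M *ᵥ u) :=
  Matrix.ext_iff_mulVec.2 fun x => by
    have hx : M *ᵥ (M' *ᵥ x) = x := by rw [Matrix.mulVec_mulVec, hMM, Matrix.one_mulVec]
    rw [← Matrix.mulVec_mulVec, ← Matrix.mulVec_mulVec, rot_mulVec, rot_mulVec, Matrix.mulVec_sub,
      Matrix.mulVec_smul, hx, hM, ← hM u (M' *ᵥ x), hx]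

end Sym

/-! ### Square classes -/

/-- The perpendicular plane of `e` has square discriminant. -/
def Rect (A : Bil F 3) (e : Fin 3 → F) : Prop :=
  ∃ f g, Frame A e f g ∧ sqSign (A.B f f) = sqSign (A.B g g)

section Class

variable [Finite F] (hs : A.s = 1)
include hs

theorem Frame.rect_iff {e f g : Fin 3 → F} (h : Frame A e f g) :
    Rect A e ↔ sqSign (A.B f f) = sqSign (A.B g g) := by
  refine ⟨?_, fun h1 => ⟨f, g, h, h1⟩⟩
  rintro ⟨f', g', h', h1⟩
  obtain ⟨d, hd, hdd⟩ := h'.det_class hs h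
  have h2 := congrArg sqSign hdd
  rw [sqSign_mul A.two h.f0 h.g0, sqSign_mul A.two (mul_ne_zero hd hd) (mul_ne_zero h'.f0 h'.g0),
    sqSign_mul A.two h'.f0 h'.g0, sqSign_of_isSquare ⟨d, rfl⟩, one_mul, h1, Int.units_mul_self] at h2
  calc sqSign (A.B f f) = sqSign (A.B f f) * (sqSign (A.B f f) * sqSign (A.B g g)) := by rw [h2, mul_one]
    _ = sqSign (A.B g g) := by rw [← mul_assoc, Int.units_mul_self, one_mul]

theorem exists_sign (σ : ℤˣ) : ∃ c : F, c ≠ 0 ∧ sqSign c = σ := by
  rcases Int.units_eq_one_or σ with rfl | rfl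
  · exact ⟨1, one_ne_zero, sqSign_of_isSquare IsSquare.one⟩
  · obtain ⟨c, hc⟩ := FiniteField.exists_nonsquare (F := F) (fun h => A.two (by
      haveI : CharP F 2 := ringChar.eq_iff.1 h
      exact CharP.cast_eq_zero F 2))
    exact ⟨c, fun h => hc (h ▸ IsSquare.zero), sqSign_of_not_isSquare hc⟩

/-- Inside a rectangular perpendicular there are frames of both classes, scaled to equal values. -/
theorem exists_square_frame {e : Fin 3 → F} (he : A.B e e ≠ 0) (hR : Rect A e) (σ : ℤˣ) :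
    ∃ f g, Frame A e f g ∧ A.B g g = A.B f f ∧ sqSign (A.B f f) = σ := by
  obtain ⟨c, hc, hcσ⟩ := exists_sign hs σ
  obtain ⟨f, g, h, hf⟩ := exists_frame_value A hs he hc
  have h1 := (h.rect_iff hs).1 hR
  obtain ⟨r, hr, hrr⟩ : ∃ r : F, r ≠ 0 ∧ r * r * A.B g g = A.B f f := by
    obtain ⟨r, hr⟩ : IsSquare (A.B f f / A.B g g) := by
      rw [← sqSign_eq_one_iff, div_eq_mul_inv, sqSign_mul A.two h.f0 (inv_ne_zero h.g0), h1]
      rw [← sqSign_mul A.two h.g0 (inv_ne_zero h.g0), mul_inv_cancel₀ h.g0, sqSign_of_isSquare IsSquare.one]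
    refine ⟨r, fun h0 => ?_, ?_⟩
    · rw [h0, mul_zero, div_eq_zero_iff] at hr
      exact hr.elim h.f0 h.g0
    · rw [← hr, div_mul_cancel₀ _ h.g0]
  refine ⟨f, r • g, ⟨he, h.f0, ?_, h.ef, by rw [map_smul, h.eg, smul_zero],
    by rw [map_smul, h.fg, smul_zero]⟩, ?_, hf ▸ hcσ⟩
  · simp [hr, h.g0]
  · simp only [map_smul, LinearMap.smul_apply, smul_eq_mul]
    linear_combination hrr

/-- In a rectangular perpendicular the vectors of the other class are not rectangular. -/
theorem Frame.not_rect {e f g : Fin 3 → F} (h : Frame A e f g) (hR : Rect A e)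
    (hne : sqSign (A.B f f) ≠ sqSign (A.B e e)) : ¬ Rect A f := fun hRf => by
  have h1 := (h.rect_iff hs).1 hR
  have h2 := ((h.rotate hs).rect_iff hs).1 hRf
  exact hne (h1.trans h2)

/-- In a rectangular perpendicular the vectors of the same class are rectangular. -/
theorem Frame.rect {e f g : Fin 3 → F} (h : Frame A e f g) (hR : Rect A e)
    (heq : sqSign (A.B f f) = sqSign (A.B e e)) : Rect A f :=
  ((h.rotate hs).rect_iff hs).2 (((h.rect_iff hs).1 hR).symm.trans heq)

/-- Both kinds of anisotropic vectors exist. -/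
theorem exists_other {e : Fin 3 → F} (he : A.B e e ≠ 0) :
    ∃ e', A.B e' e' ≠ 0 ∧ ¬ (Rect A e ↔ Rect A e') := by
  by_cases hR : Rect A e
  · obtain ⟨f, g, h, -, hσ⟩ := exists_square_frame hs he hR (-sqSign (A.B e e))
    refine ⟨f, h.f0, fun hiff => h.not_rect hs hR ?_ (hiff.1 hR)⟩
    rw [hσ]
    exact units_ne_neg_self _ |>.symm
  · obtain ⟨f, g, h⟩ := exists_frame A hs he
    by_cases h1 : sqSign (A.B f f) = sqSign (A.B e e)
    · exact ⟨g, h.g0, fun hiff => hR (hiff.2 (((h.rotate hs).rotate hs).rect_iff hs |>.2 h1.symm))⟩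
    · refine ⟨f, h.f0, fun hiff => hR (hiff.2 (((h.rotate hs).rect_iff hs).2 ?_))⟩
      have h5 := fun h' => hR ((h.rect_iff hs).2 h')
      rcases Int.units_eq_one_or (sqSign (A.B g g)) with h2 | h2 <;>
        rcases Int.units_eq_one_or (sqSign (A.B f f)) with h3 | h3 <;>
        rcases Int.units_eq_one_or (sqSign (A.B e e)) with h4 | h4 <;>
        simp_all

end Class

/-- Some non-zero scalar avoids one value of a binary square. -/
theorem exists_param [Finite F] (h5 : 5 ≤ Nat.card F) {μ : F} (h : μ ≠ 0) (c : F) :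
    ∃ t : F, t ≠ 0 ∧ μ * (t * t) ≠ c := by
  by_contra hc
  push Not at hc
  haveI := Fintype.ofFinite F
  classical
  have h1 := hc 1 one_ne_zero
  have hsub : (Finset.univ : Finset F) ⊆ {0, 1, -1} := fun t _ => by
    rcases eq_or_ne t 0 with rfl | ht
    · simp
    have h2 := hc t ht
    rw [← h1, one_mul] at h2
    rcases mul_self_eq_one_iff.1 (mul_left_cancel₀ h h2) with rfl | rfl <;> simp
  have h3 := (Finset.card_le_card hsub).trans Finset.card_le_three
  rw [Finset.card_univ, ← Nat.card_eq_fintype_card] at h3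
  omega

end Cfsg.Agent.H69.OmegaTwelve.Tens
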