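import Cfsg.Agent.H69.OmegaTwelve.Tens.Centralizer

/-!
Quarter turns, and the separation of the two kinds of half turns.
-/

set_option autoImplicit false
set_option linter.style.haveILetI false

namespace Cfsg.Agent.H69.OmegaTwelve.Tens

open Module Matrix Cfsg.Agent.H24.Tensor Cfsg.Agent.H98.TensorGL

variable {F : Type*} [Field F] {S : Sys F 3 4} {X : Subgroup (Un F)} (hX : Amb S X)
include hX

/-- The centraliser of a non-rectangular half turn consists of tensors. -/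
theorem Amb.tens_good [Finite F] (hns : ¬ Single S X) {e : Fin 3 → F} (he : S.A.B e e ≠ 0)
    (hR : ¬ Rect S.A e) {h : Un F} (hh : h ∈ X) (hc : Commute h (ltU (rotGL S.A he))) : IsTens h :=
  hX.tens_of_twist he hh hc fun β hβ β' hβ' hfix => hX.fix_tens_good hns he hR
    (X.mul_mem (X.mul_mem (X.mul_mem hh (hX.small β hβ)) (X.inv_mem hh)) (X.inv_mem (hX.small β' hβ'))) hfix

/-- A quarter turn. -/
theorem Amb.exists_quarter {e f g : Fin 3 → F} (fr : Frame S.A e f g) (hgf : S.A.B g g = S.A.B f f) :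
    ∃ M : GL (Fin 3) F, ltU M ∈ X ∧ Fix e ((ltU M : Un F) : En F) ∧
      (M : Matrix (Fin 3) (Fin 3) F) *ᵥ e = e ∧ (M : Matrix (Fin 3) (Fin 3) F) *ᵥ f = g ∧
      (M : Matrix (Fin 3) (Fin 3) F) *ᵥ g = -f ∧
      (ltU M : Un F) * ltU M = ltU (rotGL S.A fr.e0) ∧
      ltU (rotGL S.A fr.f0) * ltU M * ltU (rotGL S.A fr.f0) = ltU (rotGL S.A fr.e0) * (ltU M : Un F) := by
  have hs := hX.sA
  have huu : S.A.B (f + g) (f + g) = 2 * S.A.B f f := by simp [fr.fg, fr.gf hs, hgf]; ring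
  have hu : S.A.B (f + g) (f + g) ≠ 0 := by rw [huu]; exact mul_ne_zero S.A.two fr.f0
  have h1 : rot S.A (f + g) *ᵥ e = -e := rot_perp S.A (by simp [fr.fe hs, fr.ge hs])
  have h2 : rot S.A (f + g) *ᵥ f = g := by
    rw [rot_mulVec, huu]
    simp [fr.gf hs]
    rw [show 2 * S.A.B f f / (2 * S.A.B f f) = (1 : F) from div_self (mul_ne_zero S.A.two fr.f0)]
    module
  have h3 : rot S.A (f + g) *ᵥ g = f := by
    rw [rot_mulVec, huu]
    simp [fr.fg, hgf]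
    rw [show 2 * S.A.B f f / (2 * S.A.B f f) = (1 : F) from div_self (mul_ne_zero S.A.two fr.f0)]
    module
  set M := rotGL S.A hu * rotGL S.A fr.f0 with hM
  have hMe : (M : Matrix (Fin 3) (Fin 3) F) *ᵥ e = e := by
    rw [hM, Units.val_mul, ← Matrix.mulVec_mulVec, rotGL_val, rotGL_val, rot_perp S.A (fr.fe hs),
      Matrix.mulVec_neg, h1, neg_neg]
  have hMf : (M : Matrix (Fin 3) (Fin 3) F) *ᵥ f = g := by
    rw [hM, Units.val_mul, ← Matrix.mulVec_mulVec, rotGL_val, rotGL_val, rot_self S.A fr.f0, h2]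
  have hMg : (M : Matrix (Fin 3) (Fin 3) F) *ᵥ g = -f := by
    rw [hM, Units.val_mul, ← Matrix.mulVec_mulVec, rotGL_val, rotGL_val, rot_perp S.A fr.fg,
      Matrix.mulVec_neg, h3]
  refine ⟨M, by rw [hM, map_mul]; exact X.mul_mem (hX.turn _ hu) (hX.turn _ fr.f0),
    fun v => by rw [ltU_val, lt_pure, hMe], hMe, hMf, hMg, ?_, ?_⟩
  · rw [← map_mul]
    refine congrArg ltU (Units.ext (fr.ext_vec hs ?_ ?_ ?_)) <;>
      simp only [Units.val_mul, ← Matrix.mulVec_mulVec, hMe, hMf, hMg, Matrix.mulVec_neg, rotGL_val,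
        rot_self S.A fr.e0, rot_perp S.A fr.ef, rot_perp S.A fr.eg]
  · rw [← map_mul, ← map_mul, ← map_mul]
    refine congrArg ltU (Units.ext (fr.ext_vec hs ?_ ?_ ?_)) <;>
      simp only [Units.val_mul, ← Matrix.mulVec_mulVec, hMe, hMf, hMg, Matrix.mulVec_neg, rotGL_val, neg_neg,
        rot_self S.A fr.e0, rot_self S.A fr.f0, rot_perp S.A fr.fg, rot_perp S.A (fr.fe hs), rot_perp S.A fr.ef,
        rot_perp S.A fr.eg]

variable [Finite F] (hns : ¬ Single S X)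
include hns

/-- Half turns of the two kinds are not conjugate. -/
theorem Amb.not_conj {u v : Fin 3 → F} (hu : S.A.B u u ≠ 0) (hv : S.A.B v v ≠ 0) (hRu : ¬ Rect S.A u)
    (hRv : Rect S.A v) {g : Un F} (hg : g ∈ X)
    (hc : g * ltU (rotGL S.A hv) * g⁻¹ = ltU (rotGL S.A hu)) : False := by
  have hs := hX.sA
  obtain ⟨f, k, fr, hkf, -⟩ := exists_square_frame hs hv hRv 1
  obtain ⟨M, hMX, -, -, -, -, hsq, -⟩ := hX.exists_quarter fr hkf
  set j := g * ltU M * g⁻¹ with hj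
  have hjj : j * j = ltU (rotGL S.A hu) := by rw [hj, conj_mul, hsq, hc]
  have hjX : j ∈ X := X.mul_mem (X.mul_mem hg hMX) (X.inv_mem hg)
  have hjc : Commute j (ltU (rotGL S.A hu)) := by rw [← hjj]; exact (Commute.refl j).mul_right (Commute.refl j)
  obtain ⟨P, Q, hPQ⟩ := hX.tens_good hns hu hRu hjX hjc
  obtain ⟨h, k', fr'⟩ := exists_frame S.A hs hu
  obtain ⟨v₀, -, hv₀⟩ := S.D.ndOn_top.aniso S.D hX.sD (U := ⊤) (Bil.ne_bot_of_pos (by
    rw [Bil.finrank_top_eq]; norm_num))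
  have hv0 : v₀ ≠ 0 := fun h0 => hv₀ (by rw [h0]; simp)
  set P' := (P : Matrix (Fin 3) (Fin 3) F)
  set Q' := (Q : Matrix (Fin 4) (Fin 4) F)
  have hQv : Q' *ᵥ v₀ ≠ 0 := fun h0 => hv0 (by
    have := congrArg (((Q⁻¹ : GL (Fin 4) F) : Matrix (Fin 4) (Fin 4) F) *ᵥ ·) h0
    simpa [Q', Matrix.mulVec_mulVec] using this)
  set kk := S.D.B (Q' *ᵥ v₀) (Q' *ᵥ v₀) / S.D.B v₀ v₀ with hkk
  have hPiso : ∀ x y, kk * S.A.B (P' *ᵥ x) (P' *ᵥ y) = S.A.B x y := fun x y => by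
    have h1 := hX.iso j hjX (pure v₀ x) (pure v₀ y)
    rw [hPQ, lt_rt_pure, lt_rt_pure, S.Bt_pure_pure, S.Bt_pure_pure] at h1
    rw [hkk, div_mul_eq_mul_div, h1, mul_div_cancel_left₀ _ hv₀]
  obtain ⟨p, hp⟩ : ∃ p : F, P' *ᵥ u = p • u := by
    have h1 := fr'.block_of_commute hs hjc v₀
    nth_rewrite 1 [hPQ] at h1
    rw [lt_rt_pure] at h1
    obtain ⟨φ, hφ, -⟩ := Submodule.exists_le_ker_of_notMem (p := (⊥ : Submodule F (Fin 4 → F)))
      (v := Q' *ᵥ v₀) (by rwa [Submodule.mem_bot])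
    have h2 := congrArg (ev φ) h1
    rw [ev_pure, ev_pure] at h2
    exact ⟨(φ (Q' *ᵥ v₀))⁻¹ * φ (comp S.A (j : En F) u u *ᵥ v₀), by rw [mul_smul, ← h2, inv_smul_smul₀ hφ]⟩
  have hsqv : ∀ x, pure (Q' *ᵥ (Q' *ᵥ v₀)) (P' *ᵥ (P' *ᵥ x)) = pure v₀ (rot S.A u *ᵥ x) := fun x => by
    have h1 := congrArg (fun w : Un F => (w : En F) (pure v₀ x)) hjj
    rw [Units.val_mul, Module.End.mul_apply, hPQ, lt_rt_pure, lt_rt_pure, t_apply] at h1
    exact h1
  have h1 := hsqv u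
  rw [hp, Matrix.mulVec_smul, hp, smul_smul, rot_self S.A hu, ← pure_smul'] at h1
  have hQQ : (p * p) • (Q' *ᵥ (Q' *ᵥ v₀)) = v₀ := pureL_inj hu h1
  have hkp : kk * (p * p) = 1 := mul_right_cancel₀ hu (by
    have := hPiso u u
    rw [hp] at this
    simp at this
    linear_combination this)
  have hPP : P' *ᵥ (P' *ᵥ h) = -((p * p) • h) := by
    have h2 := hsqv h
    rw [rot_perp S.A fr'.ef] at h2
    refine pure_injective (fun h0 => hv0 ?_)
      (h2.trans (by rw [map_neg, map_neg, map_smul, ← pure_smul, hQQ]))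
    rw [← hQQ, h0, smul_zero]
  have hhP : S.A.B h (P' *ᵥ h) = 0 := by
    have h2 := hPiso h (P' *ᵥ h)
    rw [hPP, map_neg, map_smul, smul_eq_mul, S.A.symm' hs h (P' *ᵥ h)] at h2
    exact (mul_eq_zero.1 (show (2 : F) * S.A.B h (P' *ᵥ h) = 0 by
      linear_combination -h2 - S.A.B h (P' *ᵥ h) * hkp)).resolve_left S.A.two
  have hp0 : p * p ≠ 0 := right_ne_zero_of_mul_eq_one hkp
  have hval : S.A.B (P' *ᵥ h) (P' *ᵥ h) = p * p * S.A.B h h := by
    linear_combination (p * p) * hPiso h h - S.A.B (P' *ᵥ h) (P' *ᵥ h) * hkp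
  refine hRu ⟨h, P' *ᵥ h, ⟨hu, fr'.f0, by rw [hval]; exact mul_ne_zero hp0 fr'.f0, fr'.ef, ?_, hhP⟩, ?_⟩
  · have h2 := hPiso u h
    rw [hp, map_smul, LinearMap.smul_apply, smul_eq_mul, fr'.ef, mul_eq_zero, mul_eq_zero] at h2
    exact (h2.resolve_left (left_ne_zero_of_mul_eq_one hkp)).resolve_left (left_ne_zero_of_mul hp0)
  · rw [hval, Orthogonal.sqSign_mul S.A.two hp0 fr'.f0, Orthogonal.sqSign_of_isSquare ⟨p, rfl⟩, one_mul]

end Cfsg.Agent.H69.OmegaTwelve.Tens
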