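import Cfsg.Agent.H69.OmegaTwelve.Tens.Quarter

/-!
The centraliser of a rectangular half turn consists of tensors.
-/

set_option autoImplicit false
set_option linter.style.haveILetI false

namespace Cfsg.Agent.H69.OmegaTwelve.Tens

open Module Matrix Cfsg.Agent.H24.Tensor Cfsg.Agent.H98.TensorGL

variable {F : Type*} [Field F] [Finite F] {S : Sys F 3 4} {X : Subgroup (Un F)} (hX : Amb S X)
  (hns : ¬ Single S X)
include hX hns

/-- Tensors fixing a block whose square is the half turn are the two quarter turns. -/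
theorem Amb.swap_eq {e f g : Fin 3 → F} (fr : Frame S.A e f g) (hgf : S.A.B g g = S.A.B f f) {M : GL (Fin 3) F}
    (hMe : (M : Matrix (Fin 3) (Fin 3) F) *ᵥ e = e) (hMf : (M : Matrix (Fin 3) (Fin 3) F) *ᵥ f = g)
    (hMg : (M : Matrix (Fin 3) (Fin 3) F) *ᵥ g = -f) {y : Un F} (hy : y ∈ X) (hf : Fix e (y : En F))
    (ht : IsTens y) (hsq : y * y = ltU (rotGL S.A fr.e0)) : y = ltU M ∨ y = (ltU M)⁻¹ := by
  have hs := hX.sA
  obtain ⟨N, x, c, rfl, hNe, hNf, hNg, hx⟩ := hX.fix_tens_coord fr hy hf ht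
  rw [hgf, div_self fr.f0, one_mul] at hx hNg
  have h1 := congrArg (fun u : Un F => (u : En F) (pure (Pi.single 0 1) f)) hsq
  simp only [Units.val_mul, Module.End.mul_apply, ltU_val, lt_pure, rotGL_val, hNf,
    Matrix.mulVec_add, Matrix.mulVec_smul, hNg, rot_perp S.A fr.ef] at h1
  have h2 := pure_injective (show (Pi.single 0 1 : Fin 4 → F) ≠ 0 by simp) h1
  have h3 := congrArg (S.A.B f) h2
  simp [fr.fg] at h3
  have h4 : x * x + -(c * c) = -1 := mul_right_cancel₀ fr.f0 (by linear_combination h3)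
  have hx0 : x = 0 := mul_self_eq_zero.1 ((mul_eq_zero.1
    (show (2 : F) * (x * x) = 0 by linear_combination hx + h4)).resolve_left S.A.two)
  subst hx0
  rcases mul_self_eq_one_iff.1 (show c * c = 1 by linear_combination hx) with rfl | rfl
  · refine Or.inl (congrArg ltU (Units.ext (fr.ext_vec hs ?_ ?_ ?_)))
    · rw [hNe, hMe]
    · rw [hNf, hMf]; simp
    · rw [hNg, hMg]; simp
  · refine Or.inr (eq_inv_iff_mul_eq_one.2 ?_)
    rw [← map_mul]
    refine (congrArg ltU (Units.ext (fr.ext_vec hs ?_ ?_ ?_) : N * M = 1)).trans (map_one ltU)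
    · simp only [Units.val_mul, Units.val_one, ← Matrix.mulVec_mulVec, hMe, hNe, Matrix.one_mulVec]
    · simp only [Units.val_mul, Units.val_one, ← Matrix.mulVec_mulVec, hMf, hNg, Matrix.one_mulVec]; simp
    · simp only [Units.val_mul, Units.val_one, ← Matrix.mulVec_mulVec, hMg, Matrix.mulVec_neg, hNf,
        Matrix.one_mulVec]; simp

/-- Rectangular half turns: the pointwise stabiliser of the block consists of tensors. -/
theorem Amb.fix_tens_rect {e : Fin 3 → F} (he : S.A.B e e ≠ 0) (hR : Rect S.A e) {y : Un F} (hy : y ∈ X)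
    (hf : Fix e (y : En F)) : IsTens y := by
  have hs := hX.sA
  obtain ⟨f, g, fr, hgf, hσf⟩ := exists_square_frame hs he hR (-Orthogonal.sqSign (S.A.B e e))
  obtain ⟨f', g', fr', hgf', hσf'⟩ := exists_square_frame hs he hR (Orthogonal.sqSign (S.A.B e e))
  have hne : Orthogonal.sqSign (S.A.B f f) ≠ Orthogonal.sqSign (S.A.B e e) := by
    rw [hσf]; exact (units_ne_neg_self _).symm
  have hgood : ¬ Rect S.A f := fr.not_rect hs hR hne
  have hbad : Rect S.A f' := fr'.rect hs hR hσf'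
  have hbad' : Rect S.A g' := (fr'.swap₂₃ hs).rect hs hR (by rw [hgf']; exact hσf')
  obtain ⟨M, hMX, hMfix, hMe, hMf, hMg, hMsq, hMσ⟩ := hX.exists_quarter fr hgf
  set J : Un F := ltU M with hJ
  set σ : Un F := ltU (rotGL S.A fr.f0) with hσ
  set t : Un F := ltU (rotGL S.A fr.e0) with ht
  have hσσ : σ * σ = 1 := t_sq fr.f0
  have hσi : σ⁻¹ = σ := t_inv fr.f0
  have htt : t * t = 1 := t_sq fr.e0
  have hti : t⁻¹ = t := t_inv fr.e0
  have hfixmul : ∀ {a b : Un F}, Fix e (a : En F) → Fix e (b : En F) → Fix e ((a * b : Un F) : En F) :=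
    fun {a b} ha hb => (mul_mem (show a ∈ fixSub e from ha) (show b ∈ fixSub e from hb) :)
  have hfixinv : ∀ {a : Un F}, Fix e (a : En F) → Fix e ((a⁻¹ : Un F) : En F) :=
    fun {a} ha => (inv_mem (show a ∈ fixSub e from ha) :)
  -- the elements are permuting the two quarter turns
  have hnorm : ∀ z ∈ X, Fix e (z : En F) → z * J * z⁻¹ = J ∨ z * J * z⁻¹ = J⁻¹ := by
    intro z hz hzf
    set τ : Un F := ltU (rotGL S.A fr'.f0) with hτ
    set r := z * σ * z⁻¹ with hr
    have hττ : τ * τ = 1 := t_sq fr'.f0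
    have hrr : r * r = 1 := by rw [hr, conj_mul, hσσ, mul_one, mul_inv_cancel]
    have hzt := hX.commute_of_fix fr.e0 hz hzf
    have hwfix : ∀ c ∈ Subgroup.zpowers (r * τ), c ∈ X ∧ Fix e (c : En F) := by
      intro c hc
      have hw : r * τ ∈ X ⊓ fixSub e := by
        refine ⟨X.mul_mem (X.mul_mem (X.mul_mem hz (hX.turn f fr.f0)) (X.inv_mem hz)) (hX.turn f' fr'.f0),
          fun v => ?_⟩
        rw [hr]
        simp only [Units.val_mul, Module.End.mul_apply, hτ, hσ, t_apply, rot_perp S.A (fr'.fe hs), map_neg]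
        rw [hfixinv hzf v, t_apply, rot_perp S.A (fr.fe hs), map_neg, map_neg, neg_neg, hzf]
      exact (Subgroup.zpowers_le.2 hw) hc
    rcases invol_cases hττ hrr with ⟨c, hc, hcr⟩ | ⟨w, hw, hw1, hww, hwτ, -, hcase⟩
    · refine (hX.not_conj hns fr.f0 fr'.f0 hgood hbad (g := z⁻¹ * c) (X.mul_mem (X.inv_mem hz) (hwfix c hc).1) ?_).elim
      rw [show (z⁻¹ * c) * ltU (rotGL S.A fr'.f0) * (z⁻¹ * c)⁻¹ = z⁻¹ * (c * τ * c⁻¹) * z by rw [hτ]; group,
        hcr, hr]
      group
      rfl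
    obtain ⟨hwX, hwf⟩ := hwfix w hw
    have hwt : w = t := (hX.fix_comm hns fr' hwX hwf hwτ).resolve_left hw1
    subst hwt
    rcases hcase with ⟨c, hc, hcr⟩ | ⟨j, hj, hjj⟩
    · have htg : t * τ = ltU (rotGL S.A fr'.g0) := by
        rw [ht, hτ, ← map_mul]
        refine congrArg ltU (Units.ext (fr'.ext_vec hs ?_ ?_ ?_))
        all_goals simp only [Units.val_mul, ← Matrix.mulVec_mulVec, rotGL_val, rot_self S.A fr'.e0,
          rot_self S.A fr'.g0, rot_self S.A fr'.f0, rot_perp S.A fr'.ef, rot_perp S.A fr'.eg,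
          rot_perp S.A (fr'.fe hs), rot_perp S.A fr'.fg, rot_perp S.A (fr'.ge hs), rot_perp S.A (fr'.gf hs),
          Matrix.mulVec_neg, neg_neg]
      refine (hX.not_conj hns fr.f0 fr'.g0 hgood hbad' (g := z⁻¹ * c) (X.mul_mem (X.inv_mem hz) (hwfix c hc).1) ?_).elim
      rw [← htg, show (z⁻¹ * c) * (t * τ) * (z⁻¹ * c)⁻¹ = z⁻¹ * (c * (t * τ) * c⁻¹) * z by group,
        hcr, hr]
      group
      rfl
    obtain ⟨hjX, hjf⟩ := hwfix j hj
    have hjt : Commute j t := hX.commute_of_fix fr.e0 hjX hjf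
    have hjinv : j⁻¹ = t * j := inv_eq_of_mul_eq_one_right (by rw [← mul_assoc, hjt.eq, mul_assoc, hjj, htt])
    have hjmem : j = J ∨ j = J⁻¹ := by
      obtain ⟨N, c, hN, -⟩ := hX.swap hns fr' hjX hjf (by rw [invol_conj_zpowers hττ hrr hj, hjinv])
      exact hX.swap_eq hns fr hgf hMe hMf hMg hjX hjf (hN ▸ isTens_ltU N) hjj
    set j' := z⁻¹ * j * z with hj'
    have hj'X : j' ∈ X := X.mul_mem (X.mul_mem (X.inv_mem hz) hjX) hz
    have hj'f : Fix e (j' : En F) := hfixmul (hfixmul (hfixinv hzf) hjf) hzf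
    have hrjr : r * j * r = j⁻¹ := by
      have hri : r⁻¹ = r := inv_eq_of_mul_eq_one_right hrr
      have h1 : τ * j * τ = j⁻¹ := invol_conj_zpowers hττ hrr hj
      have h2 : Commute j (r * τ) := by
        obtain ⟨n, rfl⟩ := hj
        exact (Commute.refl (r * τ)).zpow_left n
      calc r * j * r = (r * τ) * (τ * j * τ) * (r * τ)⁻¹ := by
            rw [_root_.mul_inv_rev, hri, inv_eq_of_mul_eq_one_right hττ]
            simp only [mul_assoc]
            simp only [← mul_assoc τ τ, hττ, one_mul]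
        _ = j⁻¹ := by rw [h1, ← (h2.inv_left).eq, mul_inv_cancel_right]
    have hj'swap : σ * j' * σ = t * j' := by
      have h1 : σ * j' * σ = z⁻¹ * (r * j * r) * z := by rw [hj', hr]; group
      rw [h1, hrjr, hjinv, hj', ← mul_assoc z⁻¹ t, hzt.inv_left.eq]
      simp only [mul_assoc]
      rfl
    have hj'sq : j' * j' = t := by
      rw [hj', show z⁻¹ * j * z * (z⁻¹ * j * z) = z⁻¹ * (j * j) * z by group, hjj, mul_assoc, ← hzt.eq,
        inv_mul_cancel_left]
    have hj'mem : j' = J ∨ j' = J⁻¹ := by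
      obtain ⟨N, c, hN, -⟩ := hX.swap hns fr hj'X hj'f hj'swap
      exact hX.swap_eq hns fr hgf hMe hMf hMg hj'X hj'f (hN ▸ isTens_ltU N) hj'sq
    have hback : z * j' * z⁻¹ = j := by rw [hj']; group
    rcases hj'mem with h | h <;> rw [h] at hback <;> rcases hjmem with h' | h' <;> rw [h'] at hback
    · exact Or.inl hback
    · exact Or.inr hback
    · right
      have := congrArg (·⁻¹) hback
      simpa [mul_assoc] using this
    · left
      have := congrArg (·⁻¹) hback
      simpa [mul_assoc] using this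
  -- those commuting with the quarter turn
  set Y0 : Subgroup (Un F) := X ⊓ (fixSub e ⊓ Subgroup.centralizer {J}) with hY0
  have hmemY : ∀ {z : Un F}, z ∈ X → Fix e (z : En F) → Commute z J → z ∈ Y0 := fun h1 h2 h3 =>
    ⟨h1, h2, Subgroup.mem_centralizer_singleton_iff.2 h3.eq⟩
  have hY : ∀ z ∈ Y0, z ∈ X ∧ Fix e (z : En F) ∧ Commute z J := fun z hz =>
    ⟨hz.1, hz.2.1, Subgroup.mem_centralizer_singleton_iff.1 hz.2.2⟩
  have hσY : ∀ z ∈ Y0, σ * z * σ ∈ Y0 := by
    intro z hz
    obtain ⟨h1, h2, h3⟩ := hY z hz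
    refine hmemY (X.mul_mem (X.mul_mem (hX.turn _ fr.f0) h1) (hX.turn _ fr.f0)) (fun v => ?_) ?_
    · simp only [Units.val_mul, Module.End.mul_apply, hσ, t_apply, rot_perp S.A (fr.fe hs), map_neg]
      rw [h2, t_apply, rot_perp S.A (fr.fe hs), map_neg, neg_neg]
    · have h5 : σ * J * σ = J⁻¹ := by
        rw [hMσ]
        exact (inv_eq_of_mul_eq_one_right (by
          rw [← mul_assoc, (hX.commute_of_fix fr.e0 hMX hMfix).eq, mul_assoc, hMsq, htt])).symm
      have h6 : Commute (σ * z * σ) (σ * J * σ) := by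
        show σ * z * σ * (σ * J * σ) = σ * J * σ * (σ * z * σ)
        simp only [mul_assoc]
        simp only [← mul_assoc σ σ, hσσ, one_mul]
        rw [← mul_assoc z, h3.eq, mul_assoc]
      rw [h5] at h6
      simpa using h6.inv_right
  let θ : Y0 →* Y0 :=
    { toFun := fun z => ⟨σ * z.1 * σ, hσY z.1 z.2⟩
      map_one' := Subtype.ext (by simp [hσσ])
      map_mul' := fun a b => Subtype.ext (by
        show σ * (a.1 * b.1) * σ = σ * a.1 * σ * (σ * b.1 * σ)
        simp only [mul_assoc]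
        simp only [← mul_assoc σ σ, hσσ, one_mul]) }
  let N : Subgroup Y0 :=
    { carrier := {z | IsTens z.1}
      one_mem' := ⟨1, 1, by simp [lt_one, rt_one]⟩
      mul_mem' := fun ha hb => IsTens.mul ha hb
      inv_mem' := fun ha => IsTens.inv ha }
  have hθ : ∀ h : Y0, θ (θ h) = h := fun h => Subtype.ext (by
    show σ * (σ * h.1 * σ) * σ = h.1
    simp only [mul_assoc]
    simp only [← mul_assoc σ σ, hσσ, one_mul, mul_one])
  have hinvN : ∀ n ∈ N, θ n = n⁻¹ := by
    rintro ⟨n, hn⟩ hnt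
    obtain ⟨h1, h2, -⟩ := hY n hn
    obtain ⟨P, x, c, rfl, hPe, hPf, hPg, hx⟩ := hX.fix_tens_coord fr h1 h2 hnt
    rw [hgf, div_self fr.f0, one_mul] at hx hPg
    refine Subtype.ext ((inv_eq_of_mul_eq_one_right ?_).symm)
    show ltU P * (σ * ltU P * σ) = 1
    rw [hσ, ← map_mul, ← map_mul, ← map_mul]
    refine (congrArg ltU (Units.ext (fr.ext_vec hs ?_ ?_ ?_) : _ = (1 : GL (Fin 3) F))).trans (map_one _)
    all_goals simp only [Units.val_mul, Units.val_one, ← Matrix.mulVec_mulVec, rotGL_val, hPe, hPf, hPg,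
      rot_self S.A fr.f0, rot_perp S.A fr.fg, rot_perp S.A (fr.fe hs), Matrix.mulVec_neg, Matrix.mulVec_add,
      Matrix.mulVec_smul, neg_neg, Matrix.one_mulVec, smul_neg]
    all_goals (match_scalars <;> first | linear_combination hx | ring1)
  have hcenN : ∀ n ∈ N, ∀ h : Y0, Commute n h := by
    rintro ⟨n, hn⟩ hnt ⟨z, hz⟩
    obtain ⟨h1, h2, -⟩ := hY n hn
    obtain ⟨hz1, hz2, hz3⟩ := hY z hz
    obtain ⟨P, x, c, rfl, hPe, hPf, hPg, -⟩ := hX.fix_tens_coord fr h1 h2 hnt
    rw [hgf, div_self fr.f0, one_mul] at hPg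
    have hP : (P : Matrix (Fin 3) (Fin 3) F) = x • 1 + c • (M : Matrix (Fin 3) (Fin 3) F) +
        ((1 - x - c) / 2) • (rot S.A e + 1) := by
      have := S.A.two
      refine fr.ext_vec hs ?_ ?_ ?_
      all_goals simp only [hPe, hPf, hPg, Matrix.add_mulVec, Matrix.smul_mulVec, Matrix.one_mulVec, hMe, hMf, hMg,
        rot_self S.A fr.e0, rot_perp S.A fr.ef, rot_perp S.A fr.eg]
      all_goals match_scalars <;> field_simp <;> ring
    refine Subtype.ext (Units.ext ?_)
    show ((ltU P : Un F) : En F) * (z : En F) = (z : En F) * ((ltU P : Un F) : En F)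
    have e1 := congrArg Units.val hz3.eq
    have e2 := congrArg Units.val (hX.commute_of_fix fr.e0 hz1 hz2).eq
    simp only [hJ, Units.val_mul, ltU_val, rotGL_val] at e1 e2
    rw [ltU_val, hP, lt_add, lt_add, lt_smul, lt_smul, lt_smul, lt_add, lt_one]
    simp only [add_mul, mul_add, smul_mul_assoc, mul_smul_comm, one_mul, mul_one, e1, e2]
  have hfix : ∀ h : Y0, h⁻¹ * θ h ∈ N → h ∈ N := by
    rintro ⟨z, hz⟩ hn
    obtain ⟨hz1, hz2, -⟩ := hY z hz
    have hnY : z⁻¹ * (σ * z * σ) ∈ Y0 := mul_mem (inv_mem hz) (hσY z hz)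
    obtain ⟨P, x, c, hP, hPe, hPf, hPg, hx⟩ := hX.fix_tens_coord fr (hY _ hnY).1 (hY _ hnY).2.1 hn
    rw [hgf, div_self fr.f0, one_mul] at hx hPg
    have hPg' : (P : Matrix (Fin 3) (Fin 3) F) *ᵥ g = -(c • f) + x • g := by rw [hPg, neg_smul]
    set Q := (P : Matrix (Fin 3) (Fin 3) F) * rot S.A f with hQ
    obtain ⟨h, k, fr₂, hQh⟩ : ∃ h k, Frame S.A e h k ∧ Q = rot S.A h := by
      have hQe : Q *ᵥ e = -e := by
        rw [hQ, ← Matrix.mulVec_mulVec, rot_perp S.A (fr.fe hs), Matrix.mulVec_neg, hPe]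
      have hQf : Q *ᵥ f = x • f + c • g := by rw [hQ, ← Matrix.mulVec_mulVec, rot_self S.A fr.f0, hPf]
      have hQg : Q *ᵥ g = c • f - x • g := by
        rw [hQ, ← Matrix.mulVec_mulVec, rot_perp S.A fr.fg, Matrix.mulVec_neg, hPg']; module
      rcases eq_or_ne x (-1) with hx1 | hx1
      · have hc : c = 0 := mul_self_eq_zero.1 (by rw [hx1] at hx; linear_combination hx)
        refine ⟨g, f, fr.swap₂₃ hs, fr.ext_vec hs ?_ ?_ ?_⟩
        · rw [hQe, rot_perp S.A (fr.ge hs)]
        · rw [hQf, rot_perp S.A (fr.gf hs), hx1, hc]; simp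
        · rw [hQg, rot_self S.A fr.g0, hx1, hc]; simp
      have hne : (1 + x) ≠ 0 := fun h0 => hx1 (by linear_combination h0)
      have hhh : S.A.B ((1 + x) • f + c • g) ((1 + x) • f + c • g) = 2 * (1 + x) * S.A.B f f := by
        simp [fr.fg, fr.gf hs, hgf]; linear_combination S.A.B f f * hx
      have hkk : S.A.B ((-c) • f + (1 + x) • g) ((-c) • f + (1 + x) • g) = 2 * (1 + x) * S.A.B f f := by
        simp [fr.fg, fr.gf hs, hgf]; linear_combination S.A.B f f * hx
      have hne2 : 2 * (1 + x) * S.A.B f f ≠ 0 := mul_ne_zero (mul_ne_zero S.A.two hne) fr.f0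
      refine ⟨(1 + x) • f + c • g, (-c) • f + (1 + x) • g, ⟨fr.e0, hhh ▸ hne2, hkk ▸ hne2, ?_, ?_, ?_⟩,
        fr.ext_vec hs ?_ ?_ ?_⟩
      · simp [fr.ef, fr.eg]
      · simp [fr.ef, fr.eg]
      · simp [fr.fg, fr.gf hs, hgf]; ring
      · rw [hQe, rot_perp S.A (by simp [fr.fe hs, fr.ge hs])]
      · rw [hQf, rot_mulVec, hhh]
        simp [fr.gf hs]
        match_scalars <;> field_simp [fr.f0, S.A.two] <;> ring
      · rw [hQg, rot_mulVec, hhh]
        simp [fr.fg, hgf]
        match_scalars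
        · field_simp [fr.f0, S.A.two]
        · field_simp [fr.f0, S.A.two]
          linear_combination -hx
    have hcj : z⁻¹ * σ * z = ltU (rotGL S.A fr₂.f0) := by
      rw [show z⁻¹ * σ * z = z⁻¹ * (σ * z * σ) * σ by
        simp only [mul_assoc]; rw [hσσ, mul_one], hP, hσ, ← map_mul]
      exact congrArg ltU (Units.ext hQh)
    have hzc : z * ltU (rotGL S.A fr₂.f0) * z⁻¹ = σ := by rw [← hcj]; group
    by_cases hRh : Rect S.A h
    · exact (hX.not_conj hns fr.f0 fr₂.f0 hgood hRh hz1 hzc).elim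
    have hσh : Orthogonal.sqSign (S.A.B h h) = Orthogonal.sqSign (S.A.B f f) := by
      have h1 := fun hh : Orthogonal.sqSign (S.A.B h h) = Orthogonal.sqSign (S.A.B e e) => hRh (fr₂.rect hs hR hh)
      rcases Int.units_eq_one_or (Orthogonal.sqSign (S.A.B h h)) with a | a <;>
        rcases Int.units_eq_one_or (Orthogonal.sqSign (S.A.B f f)) with b | b <;>
        rcases Int.units_eq_one_or (Orthogonal.sqSign (S.A.B e e)) with d | d <;> simp_all
    obtain ⟨r, hr⟩ : IsSquare (S.A.B f f / S.A.B h h) := by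
      rw [← Orthogonal.sqSign_eq_one_iff, div_eq_mul_inv, Orthogonal.sqSign_mul S.A.two fr.f0 (inv_ne_zero fr₂.f0),
        ← hσh, ← Orthogonal.sqSign_mul S.A.two fr₂.f0 (inv_ne_zero fr₂.f0), mul_inv_cancel₀ fr₂.f0,
        Orthogonal.sqSign_of_isSquare IsSquare.one]
    have hr0 : r ≠ 0 := fun h0 => by
      rw [h0, mul_zero, div_eq_zero_iff] at hr
      exact hr.elim fr.f0 fr₂.f0
    obtain ⟨w, hw0, hww, hwu⟩ : ∃ w, rot S.A w = rot S.A h ∧ S.A.B w w = S.A.B f f ∧
        S.A.B (f + w) (f + w) ≠ 0 := by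
      have hh : r * r * S.A.B h h = S.A.B f f := by rw [← hr, div_mul_cancel₀ _ fr₂.f0]
      by_cases h0 : S.A.B (f + r • h) (f + r • h) = 0
      · refine ⟨(-r) • h, rot_mulVec_scale hs _ (neg_ne_zero.2 hr0), by simp; linear_combination hh, fun h1 => ?_⟩
        simp [S.A.symm' hs f h] at h0 h1
        refine fr.f0 ((mul_eq_zero.1 (show (2 * 2 : F) * S.A.B f f = 0 by
          linear_combination h0 + h1 - 2 * hh)).resolve_left (mul_ne_zero S.A.two S.A.two))
      · exact ⟨r • h, rot_mulVec_scale hs _ hr0, by simp; linear_combination hh, h0⟩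
    set u := f + w with hu
    have hew : S.A.B e w = 0 := by
      have h1 : rot S.A w *ᵥ e = -e := by rw [hw0, rot_perp S.A (fr₂.fe hs)]
      rw [rot_mulVec] at h1
      have h2 : (2 * S.A.B w e / S.A.B w w) • w = 0 := by linear_combination (norm := module) h1
      rcases smul_eq_zero.1 h2 with h3 | h3
      · rw [div_eq_zero_iff, mul_eq_zero] at h3
        rw [S.A.symm' hs w e]
        rcases h3 with (h3 | h3) | h3
        · exact absurd h3 S.A.two
        · exact h3
        · exact absurd (hww ▸ h3) fr.f0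
      · rw [h3, map_zero]
    have huf : rot S.A u *ᵥ f = w := by
      rw [rot_mulVec]
      have h2 : (2 * S.A.B u f / S.A.B u u) = 1 := by
        rw [div_eq_one_iff_eq hwu, hu]
        simp [S.A.symm' hs f w]
        linear_combination -hww
      rw [h2, one_smul, hu, add_sub_cancel_left]
    have hue : S.A.B u e = 0 := by simp [hu, fr.fe hs, S.A.symm' hs e w, hew]
    set τ : Un F := ltU (rotGL S.A hwu) with hτ
    have hy' : Commute (z * τ * σ) σ := by
      have h1 : τ * σ * τ = ltU (rotGL S.A fr₂.f0) := by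
        rw [hτ, hσ, ← map_mul, ← map_mul]
        refine congrArg ltU (Units.ext ?_)
        simp only [Units.val_mul, rotGL_val]
        rw [rot_conj hs (rot_iso hs hwu) (rot_sq S.A hwu), huf, hw0]
      have hττ : τ * τ = 1 := t_sq hwu
      show _ = _
      calc z * τ * σ * σ = z * τ := by rw [mul_assoc _ σ σ, hσσ, mul_one]
        _ = z * (τ * σ * τ) * τ * σ := by
            simp only [mul_assoc]
            rw [← mul_assoc τ τ σ, hττ, one_mul, hσσ, mul_one]
        _ = σ * (z * τ * σ) := by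
            rw [h1, ← hzc]
            group
    have hfixy : Fix e ((z * τ * σ : Un F) : En F) := fun v => by
      simp only [Units.val_mul, Module.End.mul_apply, hτ, hσ, t_apply, rot_perp S.A (fr.fe hs), map_neg,
        rot_perp S.A hue, hz2 v, neg_neg]
    have h3 := hX.tens_of_frame hns fr (X.mul_mem (X.mul_mem hz1 (hX.turn _ hwu)) (hX.turn _ fr.f0))
      (hX.commute_of_fix fr.e0 (X.mul_mem (X.mul_mem hz1 (hX.turn _ hwu)) (hX.turn _ fr.f0)) hfixy) hy'
    show IsTens z
    have h5 : z = z * τ * σ * (σ⁻¹ * τ⁻¹) := by group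
    rw [h5]
    exact h3.mul (((isTens_ltU _).inv).mul (isTens_ltU _).inv)
  have hinv : ∀ z ∈ Y0, σ * z * σ = z⁻¹ := fun z hz =>
    congrArg Subtype.val (inverts_of_no_fixed_coset N θ hθ hinvN hcenN hfix ⟨z, hz⟩)
  have hgen : ∀ z ∈ Y0, (z : En F) * lt (gen S.A f g) = lt (gen S.A f g) * (z : En F) := by
    intro z hz
    obtain ⟨hz1, hz2, hz3⟩ := hY z hz
    have hK : gen S.A f g = (M : Matrix (Fin 3) (Fin 3) F) + (-(2 : F)⁻¹) • (rot S.A e + 1) := by
      have := S.A.two
      obtain ⟨hge, hgf', hgg⟩ := fr.gen_apply hs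
      refine fr.ext_vec hs ?_ ?_ ?_
      all_goals simp only [hge, hgf', hgg, Matrix.add_mulVec, Matrix.smul_mulVec, Matrix.one_mulVec, hMe, hMf, hMg,
        rot_self S.A fr.e0, rot_perp S.A fr.ef, rot_perp S.A fr.eg, hgf, div_self fr.f0]
      all_goals match_scalars <;> (try field_simp) <;> ring
    have e1 := congrArg Units.val hz3.eq
    have e2 := congrArg Units.val (hX.commute_of_fix fr.e0 hz1 hz2).eq
    simp only [hJ, Units.val_mul, ltU_val, rotGL_val] at e1 e2
    rw [hK, lt_add, lt_smul, lt_add, lt_one]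
    simp only [add_mul, mul_add, smul_mul_assoc, mul_smul_comm, one_mul, mul_one, e1, e2]
  have htens : ∀ z ∈ Y0, IsTens z := fun z hz => hX.tens_of_inverted fr Y0 (fun w hw => ⟨(hY w hw).1, (hY w hw).2.1⟩)
    (fun β hβ w hw => by
      obtain ⟨h1, h2, h3⟩ := hY w hw
      refine hmemY (X.mul_mem (X.mul_mem (hX.small β hβ) h1) (X.inv_mem (hX.small β hβ))) (fun v => ?_)
        (((ltU_rtU_commute M β).symm.mul_left h3).mul_left (ltU_rtU_commute M β).symm.inv_left)
      rw [← map_inv rtU, Units.val_mul, Units.val_mul, Module.End.mul_apply, Module.End.mul_apply, rtU_apply, h2 _,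
        rtU_apply, Matrix.mulVec_mulVec, ← Units.val_mul, mul_inv_cancel, Units.val_one, Matrix.one_mulVec])
    hinv hgen hz
  refine hX.tens_of_twist he hy (hX.commute_of_fix he hy hf) fun β hβ β' hβ' hfix => htens _ (hmemY
    (X.mul_mem (X.mul_mem (X.mul_mem hy (hX.small β hβ)) (X.inv_mem hy)) (X.inv_mem (hX.small β' hβ'))) hfix ?_)
  have h1 : Commute (y * rtU β * y⁻¹) (y * J * y⁻¹) := by
    show _ = _
    rw [conj_mul, conj_mul, (ltU_rtU_commute M β).eq]
  have h2 : Commute (y * rtU β * y⁻¹) J := by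
    rcases hnorm y hy hf with h | h <;> rw [h] at h1
    · exact h1
    · simpa using h1.inv_right
  exact h2.mul_left (ltU_rtU_commute M β').symm.inv_left

/-- The centraliser of every half turn consists of tensors. -/
theorem Amb.tens_of_commute {e : Fin 3 → F} (he : S.A.B e e ≠ 0) {h : Un F} (hh : h ∈ X)
    (hc : Commute h (ltU (rotGL S.A he))) : IsTens h := by
  by_cases hR : Rect S.A e
  · exact hX.tens_of_twist he hh hc fun β hβ β' hβ' hfix => hX.fix_tens_rect hns he hR
      (X.mul_mem (X.mul_mem (X.mul_mem hh (hX.small β hβ)) (X.inv_mem hh)) (X.inv_mem (hX.small β' hβ'))) hfix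
  · exact hX.tens_good hns he hR hh hc

end Cfsg.Agent.H69.OmegaTwelve.Tens
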