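import Cfsg.Agent.H69.OmegaTwelve.Tens.Generate

/-!
The stabiliser of a decomposition `O_3 ⊗ O_4^-` is maximal in Ω.
-/

set_option autoImplicit false
set_option linter.style.haveILetI false

namespace Cfsg.Agent.H69.OmegaTwelve.Tens

open Module Matrix QuadraticMap Cfsg.Agent.H24.Tensor Cfsg.Agent.H98.TensorGL Cfsg.Agent.Orthogonal Cfsg.Agent.H96
  Cfsg.Agent.H98.OrthMax

variable {F : Type*} [Field F] [Fintype F] {ι : Type} [Fintype ι] [DecidableEq ι]

theorem noPlane_of_not_plus {S : Sys F 3 4} {f₂ : (Fin 4 → F) → (Fin 4 → F) → F} (hD : ∀ x y, S.D.B x y = f₂ x y)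
    (hs : S.D.s = 1) (hm : ¬ Cfsg.Geo.IsPlusTypeOn (fun v : Fin 4 → F => f₂ v v) ⊤) : NoPlane S.D := by
  intro x y hx0 hx hy hxy
  by_contra hy'
  refine hm ⟨Submodule.span F {x, y}, le_top, fun w hw => ?_, ?_⟩
  · obtain ⟨r, t, rfl⟩ := Submodule.mem_span_pair.1 hw
    show f₂ _ _ = 0
    rw [← hD]
    simp [hx, hy, hxy, S.D.symm' hs x y]
  · have hli : LinearIndependent F ![x, y] := by
      rw [LinearIndependent.pair_iff' hx0]
      exact fun a h => hy' (Submodule.mem_span_singleton.2 ⟨a, h⟩)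
    have h1 : finrank F (Submodule.span F (Set.range ![x, y])) = 2 := by
      rw [finrank_span_eq_card hli, Fintype.card_fin]
    rw [Matrix.range_cons, Matrix.range_cons, Matrix.range_empty, Set.union_empty, Set.singleton_union] at h1
    rw [h1, Bil.finrank_top_eq]

/-- The tensor stabiliser `O_3 ⊗ O_4^-` is maximal. -/
theorem isMaximalIn_tensor_three_four {Q : QuadraticForm F (ι → F)} (hQ : Nondeg Q)
    (hodd : Odd (Fintype.card F)) (h5 : 5 ≤ Fintype.card F) (E : ι ≃ Fin 3 × Fin 4) (P : GL ι F)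
    (f₁ : (Fin 3 → F) → (Fin 3 → F) → F) (f₂ : (Fin 4 → F) → (Fin 4 → F) → F)
    (hf₁ : Cfsg.Geo.IsSymmetricForm f₁) (hf₂ : Cfsg.Geo.IsSymmetricForm f₂)
    (hminus : ¬ Cfsg.Geo.IsPlusTypeOn (fun v : Fin 4 → F => f₂ v v) ⊤)
    (hT : Cfsg.Geo.IsTensorFormStructure id (polar ⇑Q) f₁ f₂ E P) :
    Cfsg.Geo.IsMaximalIn (Cfsg.Geo.omegaGL ⇑Q) (Cfsg.Geo.tensorProductSubgroup 3 4 E P ⊓ Cfsg.Geo.omegaGL ⇑Q) := by
  have htwo : (2 : F) ≠ 0 := fun h => by
    haveI : CharP F 2 := CharTwo.of_one_ne_zero_of_two_eq_zero one_ne_zero h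
    have h2 := FiniteField.even_card_of_char_two (F := F) ((CharP.eq F (ringChar.charP F) inferInstance))
    rw [Nat.odd_iff] at hodd
    omega
  obtain ⟨S, hsA, hsD, -, hD, hS⟩ := exists_sys htwo hf₁.bilinear hf₁.nondegenerate (Or.inl rfl)
    (fun x y => by rw [one_mul]; exact hf₁.symm y x) hf₂.bilinear hf₂.nondegenerate (Or.inl rfl)
    (fun x y => by rw [one_mul]; exact hf₂.symm y x) hT
  have np := noPlane_of_not_plus hD hsD hminus
  have h5' : 5 ≤ Nat.card F := by rwa [Nat.card_eq_fintype_card]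
  have hn : finrank F (ι → F) = 12 := by
    rw [← (tensorIso E P).finrank_eq, Module.finrank_pi_fintype]
    simp
  -- a root element outside the stabiliser
  have hne : ∃ x ∈ commutator (O Q), om Q x ∉ Cfsg.Geo.tensorProductSubgroup 3 4 E P := by
    obtain ⟨x, y, z, hx0, hxx, hyy, hxy, hxz, hyz, hzz⟩ := exists_pair (D := S.D) hsD
    obtain ⟨e, -, he⟩ := S.A.ndOn_top.aniso S.A hsA (U := ⊤) (Bil.ne_bot_of_pos (by
      rw [Bil.finrank_top_eq]; norm_num))
    obtain ⟨f, g, fr⟩ := exists_frame S.A hsA he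
    have hu : Q (tensorIso E P (pure x e)) = 0 := by rw [q_val hS, S.Bt_pure_pure, hxx, zero_mul, zero_div]
    have hw : polar Q (tensorIso E P (pure x e)) (tensorIso E P (pure x f)) = 0 := by
      rw [hS, S.Bt_pure_pure, hxx, zero_mul]
    refine ⟨_, sie_mem_commutator hQ (by omega) hu hw, fun hmem => ?_⟩
    obtain ⟨A, B, hAB⟩ := mem_tps_of_phi.1 hmem
    have hyx : S.D.B y x = 1 := by rw [S.D.symm' hsD x y, hxy]
    have hval : ∀ v u, pure ((B : Matrix (Fin 4) (Fin 4) F) *ᵥ v) ((A : Matrix (Fin 3) (Fin 3) F) *ᵥ u) =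
        pure v u + (S.D.B x v * S.A.B f u) • pure x e - (S.D.B x v * S.A.B e u) • pure x f := fun v u => by
      have h1 := LinearMap.congr_fun hAB (pure v u)
      rw [phi_sie hS, lt_rt_pure, S.Bt_pure_pure, S.Bt_pure_pure, S.Bt_pure_pure, hxx, zero_mul, zero_div,
        zero_mul, sub_zero] at h1
      exact h1.symm
    set k := S.A.B g ((A : Matrix (Fin 3) (Fin 3) F) *ᵥ g) / S.A.B g g with hk
    have hB : ∀ v, k • ((B : Matrix (Fin 4) (Fin 4) F) *ᵥ v) = v := fun v => by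
      have h1 := congrArg (bl S.A g) (hval v g)
      simp [bl_pure, fr.ge hsA, fr.gf hsA, fr.fg, fr.eg] at h1
      rw [hk, div_eq_inv_mul, mul_smul, h1, inv_smul_smul₀ fr.g0]
    have h2 := congrArg (fun m => k • bl S.A f m) (hval y e)
    simp [bl_pure, fr.fe hsA, fr.ef, fr.f0, hxy] at h2
    rw [smul_comm k, hB, smul_smul] at h2
    have h3 := congrArg (S.D.B x) h2
    simp [hxy, hxx] at h3
    have h4 := congrArg (S.D.B y) h2
    simp [hyy, hyx, h3] at h4
    rcases h4 with (h4 | h4) | h4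
    · have := hB y
      rw [h4, zero_smul] at this
      exact zero_ne_one (show (0 : F) = 1 by rw [← hxy, ← this, map_zero])
    · exact he h4
    · exact fr.f0 h4
  refine ⟨lt_of_le_not_ge inf_le_right fun h => ?_, fun M hM hMG => ?_⟩
  · obtain ⟨x, hx, hxS⟩ := hne
    exact hxS (h ((mem_omegaGL_iff Q _).2 ⟨x, hx, rfl⟩)).1
  by_cases hMS : M ≤ Cfsg.Geo.tensorProductSubgroup 3 4 E P
  · exact Or.inl (le_antisymm (le_inf hMS hMG) hM)
  refine Or.inr (le_antisymm hMG ?_)
  obtain ⟨g, hg, hgS⟩ := SetLike.not_le_iff_exists.1 hMS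
  obtain ⟨x, hx, rfl⟩ := (mem_omegaGL_iff Q g).1 (hMG hg)
  set X : Subgroup (O Q) := M.comap (om Q) ⊓ commutator (O Q) with hXdef
  have hXt : ∀ y ∈ commutator (O Q), IsTens (phi Q E P y) → y ∈ X := fun y hy hyt =>
    ⟨hM ⟨mem_tps_of_phi.2 hyt, (mem_omegaGL_iff Q _).2 ⟨y, hy, rfl⟩⟩, hy⟩
  have hturn : ∀ (u : Fin 3 → F) (hu : S.A.B u u ≠ 0), ∃ k ∈ X, phi Q E P k = ltU (rotGL S.A hu) := fun u hu => by
    obtain ⟨k, hk, hku⟩ := exists_turn hS hsA hsD np hQ hu
    exact ⟨k, hXt k hk (hku ▸ isTens_ltU _), hku⟩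
  suffices hle : sieGroup Q ≤ X by
    intro g hg
    obtain ⟨y, hy, rfl⟩ := (mem_omegaGL_iff Q g).1 hg
    rw [← sieGroup_eq_commutator hQ (by omega)] at hy
    exact (hle hy).1
  by_contra hne'
  have hns : ¬ Single S (X.map (phi Q E P)) := fun hsingle =>
    hne' (sieGroup_le_of_single hS hsA hsD np h5' hQ (by omega) hturn hsingle)
  have hsq : ∀ k : O Q, k * k ∈ commutator (O Q) := fun k =>
    (mem_commutator_iff hQ htwo _).2 ⟨by rw [map_mul]; exact Int.units_mul_self _,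
      by rw [map_mul]; exact Int.units_mul_self _⟩
  have hA : Amb S (X.map (phi Q E P)) :=
    { sA := hsA
      sD := hsD
      np := np
      five := h5'
      iso := by rintro _ ⟨k, -, rfl⟩; exact phi_iso hS k
      turn := fun u hu => by
        obtain ⟨k, hk, hku⟩ := hturn u hu
        exact ⟨k, hk, hku⟩
      small := by
        intro β hβ
        induction hβ using Subgroup.closure_induction with
        | mem β hβ =>
          obtain ⟨u, z, hu, hz, rfl⟩ := hβ
          have hz' : S.D.B u ((2 : F)⁻¹ • z) = 0 := by rw [map_smul, hz, smul_zero]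
          obtain ⟨k, hk⟩ := exists_phi hS (u := rtU (S.D.sie hu hz')) (S.iso_rt (S.D.sieM_iso hu hz'))
          have hkk : phi Q E P (k * k) = rtU (S.D.sie hu hz) := by
            rw [map_mul, hk, ← map_mul]
            refine congrArg rtU (Units.ext ?_)
            rw [Units.val_mul, Bil.sie_val, Bil.sie_val, sieM_add hsD hu hz' hz', ← add_smul]
            congr 2
            rw [show (2 : F)⁻¹ + (2 : F)⁻¹ = 1 by field_simp; ring, one_smul]
          exact ⟨k * k, hXt _ (hsq k) (hkk ▸ isTens_rtU _), hkk⟩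
        | one => rw [map_one]; exact one_mem _
        | mul u w _ _ h1 h2 => rw [map_mul]; exact mul_mem h1 h2
        | inv u _ h1 => rw [map_inv]; exact inv_mem h1
      neg := by
        intro e f g fr h hh hhe hhf hhg
        obtain ⟨k, hk, rfl⟩ := hh
        obtain ⟨R, -, hsp, hRe, hRf, hRg⟩ := exists_block_neg hS hsA hsD np hQ fr
        have hkR : k = R := phi_injective (E := E) (P := P) (fr.ext_units hsA (fun v => by rw [hhe, hRe])
          (fun v => by rw [hhf, hRf]) fun v => by rw [hhg, hRg])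
        have h1 := ((mem_commutator_iff hQ htwo k).1 hk.2).2
        rw [hkR] at h1
        exact absurd (hsp.symm.trans h1) (by decide) }
  exact hgS (mem_tps_of_phi.2 (hA.all_tens hns ⟨x, ⟨hg, hx⟩, rfl⟩))

end Cfsg.Agent.H69.OmegaTwelve.Tens
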